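import Mathlib
import Cfsg.Prelude.Def_PLocal

set_option autoImplicit false

namespace Cfsg.Agent.Helper18

open scoped commutatorElement

/-- counting lemma: a map `u : H → S` which is a surjective homomorphism modulo a normal
subgroup `KS`, with "kernel" `KH` of the same order as `KS`, forces `|H| = |S|` -/
theorem card_eq_of_quasi_hom {H S : Type*} [Group H] [Group S] [Finite H] [Finite S]
    (KH : Subgroup H) (KS : Subgroup S) (hKS : KS.Normal)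
    (u : H → S) (hmul : ∀ a b, (u a * u b)⁻¹ * u (a * b) ∈ KS)
    (hsurj : ∀ s : S, ∃ a : H, (u a)⁻¹ * s ∈ KS)
    (hker : ∀ a : H, u a ∈ KS ↔ a ∈ KH) (hcard : Nat.card KH = Nat.card KS) :
    Nat.card H = Nat.card S := by
  obtain ⟨φ, hφ⟩ : ∃ φ : H →* S ⧸ KS, ∀ a, φ a = (u a : S ⧸ KS) :=
    ⟨MonoidHom.mk' (fun a => (u a : S ⧸ KS)) (fun a b => by
      rw [← QuotientGroup.mk_mul]
      exact (QuotientGroup.eq.mpr (hmul a b)).symm), fun a => rfl⟩
  have hφs : Function.Surjective φ := by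
    intro q
    obtain ⟨s, rfl⟩ := QuotientGroup.mk_surjective q
    obtain ⟨a, ha⟩ := hsurj s
    exact ⟨a, by rw [hφ]; exact QuotientGroup.eq.mpr ha⟩
  have hφk : φ.ker = KH := by
    ext a
    rw [MonoidHom.mem_ker, hφ, QuotientGroup.eq_one_iff]
    exact hker a
  have h1 := Subgroup.card_mul_index φ.ker
  rw [Subgroup.index_ker, hφk, MonoidHom.range_eq_top.mpr hφs, Subgroup.card_top] at h1
  have h3 := Subgroup.card_mul_index KS
  rw [← h1, ← h3, hcard]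
  rfl

theorem c2_comm_mem {G : Type*} [Group G] (B : Subgroup G) {g h : G} (hg : g ∈ B) (hh : h ∈ B) :
    ⁅g, h⁆ ∈ B :=
  B.mul_mem (B.mul_mem (B.mul_mem hg hh) (B.inv_mem hg)) (B.inv_mem hh)

theorem c2_comm_mul_right {G : Type*} [Group G] (B : Subgroup G)
    (hcen : ∀ g ∈ B, ∀ h ∈ B, ∀ k ∈ B, ⁅g, h⁆ * k = k * ⁅g, h⁆)
    {g h k : G} (hg : g ∈ B) (hh : h ∈ B) (hk : k ∈ B) : ⁅g, h * k⁆ = ⁅g, h⁆ * ⁅g, k⁆ := by
  have e : ⁅g, h * k⁆ = (g * h * g⁻¹) * ⁅g, k⁆ * h⁻¹ := by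
    simp only [commutatorElement_def]; group
  have hc := hcen g hg k hk (g * h * g⁻¹) (B.mul_mem (B.mul_mem hg hh) (B.inv_mem hg))
  have hc2 := hcen g hg k hk ⁅g, h⁆ (c2_comm_mem B hg hh)
  rw [e, ← hc, ← hc2]
  simp only [commutatorElement_def]; group

theorem c2_comm_mul_left {G : Type*} [Group G] (B : Subgroup G)
    (hcen : ∀ g ∈ B, ∀ h ∈ B, ∀ k ∈ B, ⁅g, h⁆ * k = k * ⁅g, h⁆)
    {g h k : G} (hg : g ∈ B) (hh : h ∈ B) (hk : k ∈ B) : ⁅g * h, k⁆ = ⁅g, k⁆ * ⁅h, k⁆ := by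
  have e : ⁅g * h, k⁆ = g * ⁅h, k⁆ * (k * g⁻¹ * k⁻¹) := by
    simp only [commutatorElement_def]; group
  have hc := hcen h hh k hk g hg
  have hc2 := hcen h hh k hk ⁅g, k⁆ (c2_comm_mem B hg hk)
  rw [e, ← hc, ← hc2]
  simp only [commutatorElement_def]; group

theorem c2_comm_inv_left {G : Type*} [Group G] (B : Subgroup G)
    (hcen : ∀ g ∈ B, ∀ h ∈ B, ∀ k ∈ B, ⁅g, h⁆ * k = k * ⁅g, h⁆)
    {g k : G} (hg : g ∈ B) (hk : k ∈ B) : ⁅g⁻¹, k⁆ = ⁅g, k⁆⁻¹ := by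
  have h1 := c2_comm_mul_left B hcen (B.inv_mem hg) hg hk
  rw [inv_mul_cancel] at h1
  have h2 : ⁅(1 : G), k⁆ = 1 := by simp only [commutatorElement_def]; group
  rw [h2] at h1
  exact eq_inv_of_mul_eq_one_left h1.symm

theorem c2_comm_inv_right {G : Type*} [Group G] (B : Subgroup G)
    (hcen : ∀ g ∈ B, ∀ h ∈ B, ∀ k ∈ B, ⁅g, h⁆ * k = k * ⁅g, h⁆)
    {g k : G} (hg : g ∈ B) (hk : k ∈ B) : ⁅g, k⁻¹⁆ = ⁅g, k⁆⁻¹ := by
  have h1 := c2_comm_mul_right B hcen hg (B.inv_mem hk) hk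
  rw [inv_mul_cancel] at h1
  have h2 : ⁅g, (1 : G)⁆ = 1 := by simp only [commutatorElement_def]; group
  rw [h2] at h1
  exact eq_inv_of_mul_eq_one_left h1.symm

theorem eq_one_of_sq_of_odd {G : Type*} [Group G] {p : ℕ} [hp : Fact p.Prime] (hp2 : p ≠ 2)
    (hG : IsPGroup p G) (f : G) (h : f * f = 1) : f = 1 := by
  obtain ⟨k, hk⟩ := hG f
  have h1 : orderOf f ∣ p ^ k := orderOf_dvd_of_pow_eq_one hk
  have h2 : orderOf f ∣ 2 := orderOf_dvd_of_pow_eq_one (by rw [pow_two]; exact h)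
  have hcop : Nat.Coprime (p ^ k) 2 :=
    Nat.Coprime.pow_left k ((Nat.coprime_primes hp.out Nat.prime_two).mpr hp2)
  exact orderOf_eq_one_iff.mp (Nat.eq_one_of_dvd_coprimes hcop h1 h2)

theorem exists_second_layer {G : Type*} [Group G] [hnil : Group.IsNilpotent G] (A B : Subgroup G)
    (hAB : A ≤ Subgroup.normalizer (B : Set G)) (hBnA : ¬ B ≤ Subgroup.normalizer (A : Set G)) :
    ∃ x ∈ B, x ∉ Subgroup.normalizer (A : Set G) ∧
      ∀ a ∈ A, a * x * a⁻¹ * x⁻¹ ∈ Subgroup.normalizer (A : Set G) := by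
  classical
  obtain ⟨n, hn⟩ := hnil.nilpotent
  have hex : ∃ i : ℕ, ∃ x ∈ B, x ∉ Subgroup.normalizer (A : Set G) ∧
      x ∈ Subgroup.upperCentralSeries G i := by
    obtain ⟨x, hxB, hxN⟩ := SetLike.not_le_iff_exists.mp hBnA
    exact ⟨n, x, hxB, hxN, hn ▸ Subgroup.mem_top x⟩
  obtain ⟨x, hxB, hxN, hxi⟩ := Nat.find_spec hex
  refine ⟨x, hxB, hxN, fun a ha => ?_⟩
  by_contra hnot
  have h0 : Nat.find hex ≠ 0 := by
    intro h0
    rw [h0, Subgroup.upperCentralSeries_zero, Subgroup.mem_bot] at hxi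
    exact hxN (hxi ▸ Subgroup.one_mem _)
  obtain ⟨j, hj⟩ := Nat.exists_eq_succ_of_ne_zero h0
  rw [hj, Nat.succ_eq_add_one, Subgroup.mem_upperCentralSeries_succ_iff] at hxi
  have h1 : a * x * a⁻¹ * x⁻¹ ∈ Subgroup.upperCentralSeries G j := by
    have h2 := (Subgroup.upperCentralSeries G j).inv_mem (hxi a)
    rw [commutatorElement_inv] at h2
    exact h2
  have h3 : a * x * a⁻¹ * x⁻¹ ∈ B :=
    B.mul_mem ((Subgroup.mem_normalizer_iff.mp (hAB ha) x).mp hxB) (B.inv_mem hxB)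
  have h4 := Nat.find_min hex (m := j) (by omega)
  exact h4 ⟨_, h3, hnot, h1⟩

theorem mem_normalizer_of_conj_mem' {G : Type*} [Group G] [Finite G] (A : Subgroup G) (x : G)
    (h : ∀ a ∈ A, x * a * x⁻¹ ∈ A) : x ∈ Subgroup.normalizer (A : Set G) := by
  have hpow : ∀ n : ℕ, ∀ a ∈ A, x ^ n * a * (x ^ n)⁻¹ ∈ A := by
    intro n
    induction n with
    | zero =>
      intro a ha
      rw [pow_zero, one_mul, inv_one, mul_one]
      exact ha
    | succ n ih =>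
      intro a ha
      have e : x ^ (n + 1) * a * (x ^ (n + 1))⁻¹ = x * (x ^ n * a * (x ^ n)⁻¹) * x⁻¹ := by
        rw [pow_succ']; group
      rw [e]
      exact h _ (ih a ha)
  rw [Subgroup.mem_normalizer_iff]
  intro a
  refine ⟨h a, fun ha => ?_⟩
  have h1 := hpow (orderOf x - 1) _ ha
  have hx : x ^ (orderOf x - 1) = x⁻¹ := by
    have h2 : x ^ (orderOf x - 1) * x = 1 := by
      rw [← pow_succ, Nat.sub_add_cancel (orderOf_pos x), pow_orderOf_eq_one]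
    exact eq_inv_of_mul_eq_one_left h2
  rw [hx, inv_inv] at h1
  have e : x⁻¹ * (x * a * x⁻¹) * x = a := by group
  rwa [e] at h1

theorem pow_eq_one_of_closure {G : Type*} [Group G] (n : ℕ) (k : Set G)
    (hc : ∀ s ∈ k, ∀ t ∈ k, s * t = t * s) (hk : ∀ s ∈ k, s ^ n = 1) :
    ∀ y ∈ Subgroup.closure k, y ^ n = 1 := by
  have hcomm := Subgroup.isMulCommutative_closure hc
  intro y hy
  induction hy using Subgroup.closure_induction with
  | mem s hs => exact hk s hs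
  | one => exact one_pow n
  | mul s t hs ht ihs iht =>
    have hst : Commute s t := congrArg Subtype.val (hcomm.is_comm.comm ⟨s, hs⟩ ⟨t, ht⟩)
    rw [hst.mul_pow, ihs, iht, one_mul]
  | inv s hs ihs => rw [inv_pow, ihs, inv_one]

/-- **Glauberman's replacement theorem** (general form, `p` odd). -/
theorem glauberman_repl {G : Type*} [Group G] [Finite G] {p : ℕ} [hpf : Fact p.Prime] (hp : p ≠ 2)
    (hG : IsPGroup p G) (A B : Subgroup G) (hA : IsMulCommutative A) (hB2 : ⁅⁅B, B⁆, B⁆ = ⊥)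
    (hBA : ⁅B, B⁆ ≤ A) (hAB : A ≤ Subgroup.normalizer (B : Set G))
    (hBnA : ¬ B ≤ Subgroup.normalizer (A : Set G)) :
    ∃ Astar : Subgroup G, IsMulCommutative Astar ∧ Nat.card Astar = Nat.card A ∧
      A ⊓ B < Astar ⊓ B ∧ Astar ≤ Subgroup.normalizer (A : Set G) ∧
      Astar ≤ Subgroup.normalClosure (A : Set G) ∧ Monoid.exponent Astar ∣ Monoid.exponent A ∧
      Nat.card (Cfsg.omegaOne p A) ≤ Nat.card (Cfsg.omegaOne p Astar) := by
  classical
  have hnil : Group.IsNilpotent G := hG.isNilpotent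
  obtain ⟨x, hxB, hxN, hxA⟩ := exists_second_layer A B hAB hBnA
  have hAc : ∀ a ∈ A, ∀ b ∈ A, a * b = b * a := fun a ha b hb =>
    congrArg Subtype.val (hA.is_comm.comm ⟨a, ha⟩ ⟨b, hb⟩)
  have hcen : ∀ g ∈ B, ∀ h ∈ B, ∀ k ∈ B, ⁅g, h⁆ * k = k * ⁅g, h⁆ := by
    intro g hg h hh k hk
    have h1 : ⁅⁅g, h⁆, k⁆ ∈ ⁅⁅B, B⁆, B⁆ :=
      Subgroup.commutator_mem_commutator (Subgroup.commutator_mem_commutator hg hh) hk
    rw [hB2, Subgroup.mem_bot] at h1
    exact commutatorElement_eq_one_iff_mul_comm.mp h1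
  have hBB : ∀ g ∈ B, ∀ h ∈ B, ⁅g, h⁆ ∈ A := fun g hg h hh =>
    hBA (Subgroup.commutator_mem_commutator hg hh)
  have hconj : ∀ a ∈ A, ∀ b ∈ B, a * b * a⁻¹ ∈ B := fun a ha b hb =>
    (Subgroup.mem_normalizer_iff.mp (hAB ha) b).mp hb
  obtain ⟨u, hu⟩ : ∃ u : G → G, ∀ a, u a = a * x * a⁻¹ * x⁻¹ := ⟨_, fun _ => rfl⟩
  have hu1 : u 1 = 1 := by rw [hu]; group
  have huB : ∀ a ∈ A, u a ∈ B := fun a ha => by
    rw [hu]
    exact B.mul_mem (hconj a ha x hxB) (B.inv_mem hxB)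
  have huN : ∀ a ∈ A, u a ∈ Subgroup.normalizer (A : Set G) := fun a ha => by
    rw [hu]
    exact hxA a ha
  obtain ⟨w, hw⟩ : ∃ w : G → G → G, ∀ a b, w a b = a * u b * a⁻¹ * (u b)⁻¹ :=
    ⟨_, fun _ _ => rfl⟩
  have hwA : ∀ a ∈ A, ∀ b ∈ A, w a b ∈ A := by
    intro a ha b hb
    have h1 : u b * a⁻¹ * (u b)⁻¹ ∈ A :=
      (Subgroup.mem_normalizer_iff.mp (huN b hb) a⁻¹).mp (A.inv_mem ha)
    have e : w a b = a * (u b * a⁻¹ * (u b)⁻¹) := by rw [hw]; group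
    rw [e]
    exact A.mul_mem ha h1
  have hwB : ∀ a ∈ A, ∀ b ∈ A, w a b ∈ B := by
    intro a ha b hb
    rw [hw]
    exact B.mul_mem (hconj a ha _ (huB b hb)) (B.inv_mem (huB b hb))
  have hE2 : ∀ a ∈ A, ∀ b ∈ A, ⁅u b, u a⁆ = ⁅w a b, x⁆⁻¹ := by
    intro a ha b hb
    have hub := huB b hb
    have hxa : a * x * a⁻¹ ∈ B := hconj a ha x hxB
    have h1 : ⁅u b, u a⁆ = ⁅u b, a * x * a⁻¹⁆ * ⁅u b, x⁆⁻¹ := by
      have e : u a = (a * x * a⁻¹) * x⁻¹ := by rw [hu]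
      rw [e, c2_comm_mul_right B hcen hub hxa (B.inv_mem hxB), c2_comm_inv_right B hcen hub hxB]
    have h3 : a⁻¹ * u b * a = (w a b)⁻¹ * u b := by
      have hc : w a b * a⁻¹ = a⁻¹ * w a b := hAc _ (hwA a ha b hb) _ (A.inv_mem ha)
      apply eq_inv_mul_of_mul_eq
      calc w a b * (a⁻¹ * u b * a) = (w a b * a⁻¹) * u b * a := by group
        _ = (a⁻¹ * w a b) * u b * a := by rw [hc]
        _ = u b := by rw [hw]; group
    have h2 : ⁅u b, a * x * a⁻¹⁆ = a * ⁅a⁻¹ * u b * a, x⁆ * a⁻¹ := by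
      simp only [commutatorElement_def]; group
    have h4 : ⁅a⁻¹ * u b * a, x⁆ = ⁅w a b, x⁆⁻¹ * ⁅u b, x⁆ := by
      rw [h3, c2_comm_mul_left B hcen (B.inv_mem (hwB a ha b hb)) hub hxB,
        c2_comm_inv_left B hcen (hwB a ha b hb) hxB]
    have h5 : a * (⁅w a b, x⁆⁻¹ * ⁅u b, x⁆) * a⁻¹ = ⁅w a b, x⁆⁻¹ * ⁅u b, x⁆ := by
      have hmem : ⁅w a b, x⁆⁻¹ * ⁅u b, x⁆ ∈ A :=
        A.mul_mem (A.inv_mem (hBB _ (hwB a ha b hb) _ hxB)) (hBB _ hub _ hxB)
      rw [hAc a ha _ hmem]; group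
    rw [h1, h2, h4, h5]; group
  have huab : ∀ a b, u (a * b) = w a b * u b * u a := by
    intro a b
    rw [hw, hu (a * b), hu a, hu b]; group
  have hE1 : ∀ a ∈ A, ∀ b ∈ A, w b a = w a b * ⁅u b, u a⁆ := by
    intro a ha b hb
    have h1 := huab a b
    have h2 := huab b a
    rw [hAc a ha b hb, h2] at h1
    have e : w b a = (w b a * u a * u b) * (u b)⁻¹ * (u a)⁻¹ := by group
    rw [e, h1]
    simp only [commutatorElement_def]; group
  have hf1 : ∀ a ∈ A, ∀ b ∈ A, ⁅u b, u a⁆ = 1 := by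
    intro a ha b hb
    apply eq_one_of_sq_of_odd hp hG
    have hfB : ⁅u b, u a⁆ ∈ B := c2_comm_mem B (huB b hb) (huB a ha)
    have h1 := hE2 a ha b hb
    have h2 := hE2 b hb a ha
    have h3 : ⁅⁅u b, u a⁆, x⁆ = 1 :=
      commutatorElement_eq_one_iff_mul_comm.mpr (hcen _ (huB b hb) _ (huB a ha) x hxB)
    rw [hE1 a ha b hb, c2_comm_mul_left B hcen (hwB a ha b hb) hfB hxB, h3, mul_one, ← h1,
      ← commutatorElement_inv] at h2
    have h4 := inv_mul_cancel ⁅u b, u a⁆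
    rw [h2] at h4
    exact h4
  have hcomm_u : ∀ a ∈ A, ∀ b ∈ A, u a * u b = u b * u a := fun a ha b hb =>
    commutatorElement_eq_one_iff_mul_comm.mp (hf1 b hb a ha)
  have hwsymm : ∀ a ∈ A, ∀ b ∈ A, w b a = w a b := fun a ha b hb => by
    rw [hE1 a ha b hb, hf1 a ha b hb, mul_one]
  have huD : ∀ d ∈ A, d ∈ B → u d ∈ A := fun d _ hdB => by
    rw [hu]
    exact hBB d hdB x hxB
  have hcomm_k : ∀ k ∈ A, u k ∈ A → ∀ b ∈ A, k * u b = u b * k := by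
    intro k hk huk b hb
    have h1 : w k b = 1 := by
      rw [← hwsymm k hk b hb, hw, hAc b hb _ huk]; group
    rw [hw] at h1
    calc k * u b = (k * u b * k⁻¹ * (u b)⁻¹) * (u b * k) := by group
      _ = u b * k := by rw [h1, one_mul]
  obtain ⟨K, hK⟩ : ∃ K : Subgroup G, ∀ a, a ∈ K ↔ a ∈ A ∧ u a ∈ A :=
    ⟨{ carrier := {a | a ∈ A ∧ u a ∈ A}
       one_mem' := ⟨A.one_mem, by rw [hu1]; exact A.one_mem⟩
       mul_mem' := by
         rintro a b ⟨ha, hua⟩ ⟨hb, hub⟩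
         refine ⟨A.mul_mem ha hb, ?_⟩
         rw [huab]
         exact A.mul_mem (A.mul_mem (hwA a ha b hb) hub) hua
       inv_mem' := by
         rintro a ⟨ha, hua⟩
         refine ⟨A.inv_mem ha, ?_⟩
         have h1 := huab a a⁻¹
         rw [mul_inv_cancel, hu1] at h1
         have e : u a⁻¹ = (w a a⁻¹)⁻¹ * (w a a⁻¹ * u a⁻¹ * u a) * (u a)⁻¹ := by group
         rw [e, ← h1, mul_one]
         exact A.mul_mem (A.inv_mem (hwA a ha _ (A.inv_mem ha))) (A.inv_mem hua) },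
      fun a => Iff.rfl⟩
  have hgc : ∀ A₁ : Subgroup G, A₁ ≤ A →
      ∀ s ∈ ((K ⊓ A₁ : Subgroup G) : Set G) ∪ u '' (A₁ : Set G),
      ∀ t ∈ ((K ⊓ A₁ : Subgroup G) : Set G) ∪ u '' (A₁ : Set G), s * t = t * s := by
    rintro A₁ hA₁ s (hs | ⟨a, ha, rfl⟩) t (ht | ⟨b, hb, rfl⟩)
    · exact hAc s ((hK s).mp hs.1).1 t ((hK t).mp ht.1).1
    · exact hcomm_k s ((hK s).mp hs.1).1 ((hK s).mp hs.1).2 b (hA₁ hb)
    · exact (hcomm_k t ((hK t).mp ht.1).1 ((hK t).mp ht.1).2 a (hA₁ ha)).symm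
    · exact hcomm_u a (hA₁ ha) b (hA₁ hb)
  have hgen : ∀ A₁ : Subgroup G, A₁ ≤ A → (∀ a ∈ A₁, ∀ b ∈ A₁, w a b ∈ A₁) →
      (∀ a ∈ A₁, u a ∈ A → u a ∈ A₁) →
      Nat.card (Subgroup.closure (((K ⊓ A₁ : Subgroup G) : Set G) ∪ u '' (A₁ : Set G)) :
        Subgroup G) = Nat.card A₁ := by
    intro A₁ hA₁ hw₁ hu₁
    obtain ⟨S, hS⟩ : ∃ S : Subgroup G,
        S = Subgroup.closure (((K ⊓ A₁ : Subgroup G) : Set G) ∪ u '' (A₁ : Set G)) := ⟨_, rfl⟩
    rw [← hS]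
    have hSc : ∀ s ∈ S, ∀ t ∈ S, s * t = t * s := by
      have hcc := Subgroup.isMulCommutative_closure (hgc A₁ hA₁)
      intro s hs t ht
      rw [hS] at hs ht
      exact congrArg Subtype.val (hcc.is_comm.comm ⟨s, hs⟩ ⟨t, ht⟩)
    have hKS : K ⊓ A₁ ≤ S := hS ▸ fun k hk => Subgroup.subset_closure (Or.inl hk)
    have huS : ∀ a ∈ A₁, u a ∈ S := fun a ha =>
      hS ▸ Subgroup.subset_closure (Or.inr ⟨a, ha, rfl⟩)
    have hwK : ∀ a ∈ A₁, ∀ b ∈ A₁, w a b ∈ K ⊓ A₁ := by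
      intro a ha b hb
      exact ⟨(hK _).mpr ⟨hwA a (hA₁ ha) b (hA₁ hb),
        huD _ (hwA a (hA₁ ha) b (hA₁ hb)) (hwB a (hA₁ ha) b (hA₁ hb))⟩, hw₁ a ha b hb⟩
    have hmul : ∀ a ∈ A₁, ∀ b ∈ A₁, (u a * u b)⁻¹ * u (a * b) ∈ K ⊓ A₁ := by
      intro a ha b hb
      have hwa := hwA a (hA₁ ha) b (hA₁ hb)
      have hwu := huD _ hwa (hwB a (hA₁ ha) b (hA₁ hb))
      have e : (u a * u b)⁻¹ * u (a * b) = w a b := by
        rw [huab]
        have h1 := hcomm_k (w a b) hwa hwu b (hA₁ hb)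
        have h2 := hcomm_k (w a b) hwa hwu a (hA₁ ha)
        have h3 := hcomm_u a (hA₁ ha) b (hA₁ hb)
        calc (u a * u b)⁻¹ * (w a b * u b * u a)
            = (u a * u b)⁻¹ * ((w a b * u b) * u a) := by group
          _ = (u a * u b)⁻¹ * ((u b * w a b) * u a) := by rw [h1]
          _ = (u a * u b)⁻¹ * (u b * (w a b * u a)) := by group
          _ = (u a * u b)⁻¹ * (u b * (u a * w a b)) := by rw [h2]
          _ = (u a * u b)⁻¹ * ((u b * u a) * w a b) := by group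
          _ = (u a * u b)⁻¹ * ((u a * u b) * w a b) := by rw [h3]
          _ = w a b := by group
      rw [e]
      exact hwK a ha b hb
    have hsurj : ∀ s ∈ S, ∃ a ∈ A₁, (u a)⁻¹ * s ∈ K ⊓ A₁ := by
      intro s hs
      rw [hS] at hs
      induction hs using Subgroup.closure_induction with
      | mem s hs =>
        rcases hs with hs | ⟨a, ha, rfl⟩
        · exact ⟨1, A₁.one_mem, by rw [hu1, inv_one, one_mul]; exact hs⟩
        · exact ⟨a, ha, by rw [inv_mul_cancel]; exact Subgroup.one_mem _⟩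
      | one => exact ⟨1, A₁.one_mem, by rw [hu1, inv_one, one_mul]; exact Subgroup.one_mem _⟩
      | mul s t hs ht ihs iht =>
        obtain ⟨a, ha, hak⟩ := ihs
        obtain ⟨b, hb, hbk⟩ := iht
        refine ⟨a * b, A₁.mul_mem ha hb, ?_⟩
        have hk1c : ((u a)⁻¹ * s) * u b = u b * ((u a)⁻¹ * s) :=
          hcomm_k _ ((hK _).mp hak.1).1 ((hK _).mp hak.1).2 b (hA₁ hb)
        have e : (u (a * b))⁻¹ * (s * t) =
            ((u a * u b)⁻¹ * u (a * b))⁻¹ * ((u a)⁻¹ * s) * ((u b)⁻¹ * t) := by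
          calc (u (a * b))⁻¹ * (s * t)
              = ((u a * u b)⁻¹ * u (a * b))⁻¹ * ((u b)⁻¹ * (((u a)⁻¹ * s) * u b)) *
                  ((u b)⁻¹ * t) := by group
            _ = ((u a * u b)⁻¹ * u (a * b))⁻¹ * ((u b)⁻¹ * (u b * ((u a)⁻¹ * s))) *
                  ((u b)⁻¹ * t) := by rw [hk1c]
            _ = ((u a * u b)⁻¹ * u (a * b))⁻¹ * ((u a)⁻¹ * s) * ((u b)⁻¹ * t) := by group
        rw [e]
        exact Subgroup.mul_mem _ (Subgroup.mul_mem _ (Subgroup.inv_mem _ (hmul a ha b hb)) hak) hbk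
      | inv s hs ihs =>
        obtain ⟨a, ha, hak⟩ := ihs
        refine ⟨a⁻¹, A₁.inv_mem ha, ?_⟩
        have hkc : ((u a)⁻¹ * s) * u a⁻¹ = u a⁻¹ * ((u a)⁻¹ * s) :=
          hcomm_k _ ((hK _).mp hak.1).1 ((hK _).mp hak.1).2 a⁻¹ (A.inv_mem (hA₁ ha))
        have hkc' : (u a⁻¹)⁻¹ * ((u a)⁻¹ * s)⁻¹ = ((u a)⁻¹ * s)⁻¹ * (u a⁻¹)⁻¹ := by
          rw [← mul_inv_rev, ← mul_inv_rev, hkc]
        have hm' : u a * u a⁻¹ ∈ K ⊓ A₁ := by
          have h1 := hmul a ha a⁻¹ (A₁.inv_mem ha)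
          rw [mul_inv_cancel, hu1, mul_one] at h1
          exact (Subgroup.inv_mem_iff _).mp h1
        have e : (u a⁻¹)⁻¹ * s⁻¹ = ((u a)⁻¹ * s)⁻¹ * (u a * u a⁻¹)⁻¹ := by
          calc (u a⁻¹)⁻¹ * s⁻¹ = ((u a⁻¹)⁻¹ * ((u a)⁻¹ * s)⁻¹) * (u a)⁻¹ := by group
            _ = (((u a)⁻¹ * s)⁻¹ * (u a⁻¹)⁻¹) * (u a)⁻¹ := by rw [hkc']
            _ = ((u a)⁻¹ * s)⁻¹ * (u a * u a⁻¹)⁻¹ := by group
        rw [e]
        exact Subgroup.mul_mem _ (Subgroup.inv_mem _ hak) (Subgroup.inv_mem _ hm')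
    have hnorm : ((K ⊓ A₁).subgroupOf S).Normal := by
      constructor
      intro n hn g
      rw [Subgroup.mem_subgroupOf] at hn ⊢
      have e : ((g * n * g⁻¹ : S) : G) = (n : G) := by
        rw [Subgroup.coe_mul, Subgroup.coe_mul, Subgroup.coe_inv, hSc _ g.2 _ n.2]
        group
      rw [e]
      exact hn
    refine (card_eq_of_quasi_hom ((K ⊓ A₁).subgroupOf A₁) ((K ⊓ A₁).subgroupOf S) hnorm
      (fun a => ⟨u a, huS a a.2⟩) ?_ ?_ ?_ ?_).symm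
    · intro a b
      rw [Subgroup.mem_subgroupOf]
      exact hmul a a.2 b b.2
    · intro s
      obtain ⟨a, ha, hk⟩ := hsurj s s.2
      exact ⟨⟨a, ha⟩, Subgroup.mem_subgroupOf.mpr hk⟩
    · intro a
      rw [Subgroup.mem_subgroupOf, Subgroup.mem_subgroupOf]
      constructor
      · rintro ⟨h1, -⟩
        exact ⟨(hK _).mpr ⟨hA₁ a.2, ((hK _).mp h1).1⟩, a.2⟩
      · rintro ⟨h1, -⟩
        have hua : u a ∈ A := ((hK _).mp h1).2
        exact ⟨(hK _).mpr ⟨hua, huD _ hua (huB _ (hA₁ a.2))⟩, hu₁ _ a.2 hua⟩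
    · rw [Nat.card_congr (Subgroup.subgroupOfEquivOfLe (inf_le_right : K ⊓ A₁ ≤ A₁)).toEquiv,
        Nat.card_congr (Subgroup.subgroupOfEquivOfLe hKS).toEquiv]
  have hwmul : ∀ a ∈ A, ∀ a' ∈ A, ∀ b ∈ A, w (a * a') b = w a b * w a' b := by
    intro a ha a' ha' b hb
    have hc : a * w a' b = w a' b * a := hAc a ha _ (hwA a' ha' b hb)
    calc w (a * a') b = (a * w a' b) * a⁻¹ * w a b := by
          rw [hw (a * a') b, hw a' b, hw a b]; group
      _ = (w a' b * a) * a⁻¹ * w a b := by rw [hc]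
      _ = w a' b * w a b := by group
      _ = w a b * w a' b := hAc _ (hwA a' ha' b hb) _ (hwA a ha b hb)
  have hw1 : ∀ b, w 1 b = 1 := fun b => by rw [hw]; group
  have hwpow : ∀ a ∈ A, ∀ b ∈ A, ∀ n : ℕ, w (a ^ n) b = (w a b) ^ n := by
    intro a ha b hb n
    induction n with
    | zero => rw [pow_zero, pow_zero, hw1]
    | succ n ih => rw [pow_succ, pow_succ, ← ih, hwmul (a ^ n) (A.pow_mem ha n) a ha b hb]
  have hupow : ∀ a ∈ A, ∀ n : ℕ, u (a ^ n) = (u a) ^ n * (w a a) ^ (n.choose 2) := by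
    intro a ha n
    have hWU : Commute (w a a) (u a) :=
      hcomm_k (w a a) (hwA a ha a ha) (huD _ (hwA a ha a ha) (hwB a ha a ha)) a ha
    induction n with
    | zero => rw [pow_zero, pow_zero, hu1, Nat.choose_zero_succ, pow_zero, one_mul]
    | succ n ih =>
      have hch : (n + 1).choose 2 = n + n.choose 2 := by
        rw [Nat.choose_succ_succ' n 1, Nat.choose_one_right]
      rw [pow_succ a n, huab, ih, hwpow a ha a ha n, hch]
      calc w a a ^ n * u a * (u a ^ n * w a a ^ n.choose 2)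
          = (w a a ^ n * u a) * u a ^ n * w a a ^ n.choose 2 := by group
        _ = (u a * w a a ^ n) * u a ^ n * w a a ^ n.choose 2 := by rw [(hWU.pow_left n).eq]
        _ = u a * (w a a ^ n * u a ^ n) * w a a ^ n.choose 2 := by group
        _ = u a * (u a ^ n * w a a ^ n) * w a a ^ n.choose 2 := by rw [(hWU.pow_pow n n).eq]
        _ = u a ^ (n + 1) * w a a ^ (n + n.choose 2) := by rw [pow_succ', pow_add]; group
  have hF11 : ∀ n : ℕ, Odd n → ∀ a ∈ A, a ^ n = 1 → (u a) ^ n = 1 := by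
    intro n hodd a ha han
    have h1 : (w a a) ^ n = 1 := by rw [← hwpow a ha a ha n, han, hw1]
    obtain ⟨m, rfl⟩ := hodd
    have hch : (2 * m + 1).choose 2 = (2 * m + 1) * m := by
      rw [Nat.choose_two_right]
      have h2 : (2 * m + 1) * (2 * m + 1 - 1) = ((2 * m + 1) * m) * 2 := by
        rw [Nat.add_sub_cancel]; ring
      rw [h2, Nat.mul_div_cancel _ (by norm_num : 0 < 2)]
    have h3 := hupow a ha (2 * m + 1)
    rw [han, hu1, hch, pow_mul, h1, one_pow, mul_one] at h3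
    exact h3.symm
  obtain ⟨Astar, hAstar⟩ : ∃ Astar : Subgroup G,
      Astar = Subgroup.closure (((K ⊓ A : Subgroup G) : Set G) ∪ u '' (A : Set G)) := ⟨_, rfl⟩
  have hcardA := hgen A le_rfl (fun a ha b hb => hwA a ha b hb) (fun a _ h => h)
  rw [← hAstar] at hcardA
  have hAsc : IsMulCommutative Astar := hAstar ▸ Subgroup.isMulCommutative_closure (hgc A le_rfl)
  have hKle : K ≤ Astar := by
    intro k hk
    rw [hAstar]
    exact Subgroup.subset_closure (Or.inl ⟨hk, ((hK k).mp hk).1⟩)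
  have huAs : ∀ a ∈ A, u a ∈ Astar := fun a ha => by
    rw [hAstar]
    exact Subgroup.subset_closure (Or.inr ⟨a, ha, rfl⟩)
  refine ⟨Astar, hAsc, hcardA, ?_, ?_, ?_, ?_, ?_⟩
  · have hle : A ⊓ B ≤ Astar ⊓ B := fun d hd =>
      ⟨hKle ((hK d).mpr ⟨hd.1, huD d hd.1 hd.2⟩), hd.2⟩
    refine lt_of_le_of_ne hle ?_
    intro heq
    apply hxN
    have hall : ∀ a ∈ A, u a ∈ A := fun a ha => by
      have h1 : u a ∈ Astar ⊓ B := ⟨huAs a ha, huB a ha⟩
      rw [← heq] at h1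
      exact h1.1
    apply mem_normalizer_of_conj_mem' A x
    intro a ha
    have h1 := hall a⁻¹ (A.inv_mem ha)
    rw [hu, inv_inv] at h1
    have e : x * a * x⁻¹ = a * (a⁻¹ * x * a * x⁻¹) := by group
    rw [e]
    exact A.mul_mem ha h1
  · rw [hAstar, Subgroup.closure_le]
    rintro s (hs | ⟨a, ha, rfl⟩)
    · exact Subgroup.le_normalizer hs.2
    · exact huN a ha
  · rw [hAstar, Subgroup.closure_le]
    rintro s (hs | ⟨a, ha, rfl⟩)
    · exact Subgroup.subset_normalClosure hs.2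
    · have h1 : a ∈ Subgroup.normalClosure (A : Set G) := Subgroup.subset_normalClosure ha
      have h2 : x * a⁻¹ * x⁻¹ ∈ Subgroup.normalClosure (A : Set G) :=
        Subgroup.normalClosure_normal.conj_mem _ (Subgroup.inv_mem _ h1) x
      have e : u a = a * (x * a⁻¹ * x⁻¹) := by rw [hu]; group
      show u a ∈ Subgroup.normalClosure (A : Set G)
      rw [e]
      exact Subgroup.mul_mem _ h1 h2
  · have hApow : ∀ a ∈ A, a ^ Monoid.exponent A = 1 := fun a ha => by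
      have h1 := Monoid.pow_exponent_eq_one (⟨a, ha⟩ : A)
      exact congrArg Subtype.val h1
    have hodd : Odd (Monoid.exponent A) := by
      obtain ⟨k, hk⟩ := IsPGroup.iff_card.mp (hG.to_subgroup A)
      have h1 : Monoid.exponent A ∣ p ^ k := hk ▸ Group.exponent_dvd_nat_card
      obtain ⟨j, -, hj⟩ := (Nat.dvd_prime_pow hpf.out).mp h1
      rw [hj]
      exact (hpf.out.odd_of_ne_two hp).pow
    apply Monoid.exponent_dvd_of_forall_pow_eq_one
    intro y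
    apply Subtype.ext
    rw [Subgroup.coe_pow, Subgroup.coe_one]
    have hy : (y : G) ∈ Subgroup.closure (((K ⊓ A : Subgroup G) : Set G) ∪ u '' (A : Set G)) :=
      hAstar ▸ y.2
    refine pow_eq_one_of_closure _ _ (hgc A le_rfl) ?_ _ hy
    rintro s (hs | ⟨a, ha, rfl⟩)
    · exact hApow s hs.2
    · exact hF11 _ hodd a ha (hApow a ha)
  · obtain ⟨Om, hOm⟩ : ∃ Om : Subgroup G, ∀ a, a ∈ Om ↔ a ∈ A ∧ a ^ p = 1 :=
      ⟨{ carrier := {a | a ∈ A ∧ a ^ p = 1}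
         one_mem' := ⟨A.one_mem, one_pow p⟩
         mul_mem' := by
           rintro a b ⟨ha, hap⟩ ⟨hb, hbp⟩
           have hc : Commute a b := hAc a ha b hb
           exact ⟨A.mul_mem ha hb, by rw [hc.mul_pow, hap, hbp, one_mul]⟩
         inv_mem' := by
           rintro a ⟨ha, hap⟩
           exact ⟨A.inv_mem ha, by rw [inv_pow, hap, inv_one]⟩ }, fun a => Iff.rfl⟩
    have hOmA : Om ≤ A := fun a ha => ((hOm a).mp ha).1
    have hpodd : Odd p := hpf.out.odd_of_ne_two hp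
    have h1 : Cfsg.omegaOne p A ≤ Om := by
      unfold Cfsg.omegaOne
      rw [Subgroup.closure_le]
      intro a ha
      exact (hOm a).mpr ha
    have h2 := hgen Om hOmA (fun a ha b hb => (hOm _).mpr ⟨hwA a (hOmA ha) b (hOmA hb), by
        rw [← hwpow a (hOmA ha) b (hOmA hb) p, ((hOm a).mp ha).2, hw1]⟩)
      (fun a ha hua => (hOm _).mpr ⟨hua, hF11 p hpodd a (hOmA ha) ((hOm a).mp ha).2⟩)
    have h3 : Subgroup.closure (((K ⊓ Om : Subgroup G) : Set G) ∪ u '' (Om : Set G)) ≤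
        Cfsg.omegaOne p Astar := by
      unfold Cfsg.omegaOne
      apply Subgroup.closure_mono
      rintro s (hs | ⟨a, ha, rfl⟩)
      · exact ⟨hKle hs.1, ((hOm s).mp hs.2).2⟩
      · exact ⟨huAs a (hOmA ha), hF11 p hpodd a (hOmA ha) ((hOm a).mp ha).2⟩
    calc Nat.card (Cfsg.omegaOne p A) ≤ Nat.card Om := Subgroup.card_le_of_le h1
      _ = Nat.card (Subgroup.closure (((K ⊓ Om : Subgroup G) : Set G) ∪ u '' (Om : Set G)) :
            Subgroup G) := h2.symm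
      _ ≤ Nat.card (Cfsg.omegaOne p Astar) := Subgroup.card_le_of_le h3

end Cfsg.Agent.Helper18
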