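import Mathlib

set_option autoImplicit false

namespace Cfsg.Agent.Helper18

open scoped Pointwise

theorem mem_conj_smul_sub {G : Type*} [Group G] (H : Subgroup G) (g x : G) :
    x ∈ MulAut.conj g • H ↔ g⁻¹ * x * g ∈ H := by
  rw [Subgroup.mem_pointwise_smul_iff_inv_smul_mem]
  simp [MulAut.smul_def]

/-- Sylow conjugacy inside a subgroup containing both Sylow subgroups. -/
theorem sylow_conj_in {G : Type*} [Group G] [Finite G] {p : ℕ} [Fact p.Prime] (K : Subgroup G)
    (P Q : Sylow p G) (hP : (P : Subgroup G) ≤ K) (hQ : (Q : Subgroup G) ≤ K) :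
    ∃ k ∈ K, k • P = Q := by
  obtain ⟨k, hk⟩ := MulAction.exists_smul_eq K (P.subtype hP) (Q.subtype hQ)
  rw [Sylow.smul_subtype] at hk
  exact ⟨k, k.2, Sylow.subtype_injective hk⟩

/-- A subgroup `H` of odd order which is a TI-set with "normalizer" `H ∪ S`, all of whose
`q`-subgroups are cyclic, in a group with no normal `q`-complements for the primes dividing
`|H|`: every element of `S` inverts `H`. -/
theorem odd_ti_invert {G : Type*} [Group G] [Finite G] (H : Subgroup G) (S : Set G)
    (hodd : Odd (Nat.card H))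
    (hSn : ∀ s ∈ S, ∀ h ∈ H, s * h * s⁻¹ ∈ H)
    (hSnot : ∀ s ∈ S, s ∉ H)
    (hSS : ∀ s ∈ S, ∀ t ∈ S, s * t ∈ H)
    (hSH : ∀ s ∈ S, ∀ h ∈ H, s * h ∈ S)
    (hTI : ∀ y ∈ H, y ≠ 1 → ∀ g : G, g⁻¹ * y * g ∈ H → g ∈ H ∨ g ∈ S)
    (hcyc : ∀ (q : ℕ) [Fact q.Prime] (P : Subgroup G), P ≤ H → IsPGroup q P → IsCyclic P)
    (hnil : ∀ q : ℕ, q.Prime → q ∣ Nat.card H →
      ¬ ∃ N : Subgroup G, N.Normal ∧ N.index = q ^ (Nat.card G).factorization q) :
    ∀ s ∈ S, ∀ h ∈ H, s * h * s⁻¹ = h⁻¹ := by
  classical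
  have hHodd : ∀ h ∈ H, Odd (orderOf h) := by
    intro h hh
    have h1 : orderOf h ∣ Nat.card H := by
      have := orderOf_dvd_natCard (⟨h, hh⟩ : H)
      rwa [Subgroup.orderOf_mk] at this
    exact Odd.of_dvd_nat hodd h1
  have hA : ∀ s ∈ S, ∀ k : ℕ, s ^ (2 * k + 1) ∈ S := by
    intro s hs k
    have h1 : (s * s) ^ k ∈ H := H.pow_mem (hSS s hs s hs) k
    have h2 : s ^ (2 * k + 1) = s * (s * s) ^ k := by
      rw [pow_succ', pow_mul, pow_two]
    rw [h2]; exact hSH s hs _ h1
  have hB : ∀ g : G, Odd (orderOf g) → g ∉ S := by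
    rintro g ⟨k, hk⟩ hg
    have h1 := hA g hg k
    rw [← hk, pow_orderOf_eq_one] at h1
    exact hSnot 1 h1 H.one_mem
  have hC : ∀ s ∈ S, ∃ w ∈ S, w * w = 1 ∧ ∃ k : ℕ, w = s ^ (2 * k + 1) := by
    intro s hs
    obtain ⟨k, hk⟩ := hHodd (s * s) (hSS s hs s hs)
    refine ⟨s ^ (2 * k + 1), hA s hs k, ?_, k, rfl⟩
    have : s ^ (2 * k + 1) * s ^ (2 * k + 1) = (s * s) ^ (2 * k + 1) := by
      rw [← pow_two, ← pow_two, ← pow_mul, ← pow_mul, mul_comm]
    rw [this, ← hk, pow_orderOf_eq_one]
  have hinvH : ∀ w : G, w * w = 1 → w ≠ 1 → w ∉ H := by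
    intro w hw hw1 hwH
    have h2 : orderOf w = 2 := orderOf_eq_prime (by rw [pow_two]; exact hw) hw1
    have := hHodd w hwH
    rw [h2] at this
    exact absurd this (by decide)
  -- Key: no involution commutes with a nontrivial element of `H`.
  have key : ∀ w x : G, w * w = 1 → w ≠ 1 → x ∈ H → x ≠ 1 → w * x = x * w → False := by
    intro w0 x0 hw0 hw01 hx0 hx01 hcomm0
    have hex : ∃ q : ℕ, q.Prime ∧ ∃ w x : G, w * w = 1 ∧ w ≠ 1 ∧ x ∈ H ∧ orderOf x = q ∧
        w * x = x * w := by
      have ho : orderOf x0 ≠ 1 := by rwa [Ne, orderOf_eq_one_iff]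
      have ho0 : orderOf x0 ≠ 0 := (orderOf_pos x0).ne'
      refine ⟨(orderOf x0).minFac, Nat.minFac_prime ho, w0,
        x0 ^ (orderOf x0 / (orderOf x0).minFac), hw0, hw01, H.pow_mem hx0 _,
        orderOf_pow_orderOf_div ho0 (Nat.minFac_dvd _), ?_⟩
      exact ((show Commute w0 x0 from hcomm0).pow_right _).eq
    have hspec := Nat.find_spec hex
    have hmin : ∀ p, p < Nat.find hex → ¬ (p.Prime ∧ ∃ w x : G, w * w = 1 ∧ w ≠ 1 ∧ x ∈ H ∧
        orderOf x = p ∧ w * x = x * w) := fun p hp => Nat.find_min hex hp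
    generalize Nat.find hex = q at hspec hmin
    obtain ⟨hq, w1, x, hw1, hw11, hxH, hxo, hcomm1⟩ := hspec
    have : Fact q.Prime := ⟨hq⟩
    have hx1 : x ≠ 1 := by
      intro h; rw [h, orderOf_one] at hxo; exact hq.ne_one hxo.symm
    have hqodd : Odd q := by rw [← hxo]; exact hHodd x hxH
    have hq2 : q ≠ 2 := by rintro rfl; exact absurd hqodd (by decide)
    have hqH : q ∣ Nat.card H := by
      have := orderOf_dvd_natCard (⟨x, hxH⟩ : H)
      rwa [Subgroup.orderOf_mk, hxo] at this
    have hw1S : w1 ∈ S := by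
      rcases hTI x hxH hx1 w1
        (by rw [mul_assoc, ← hcomm1, ← mul_assoc, inv_mul_cancel, one_mul]; exact hxH) with h | h
      · exact absurd h (hinvH w1 hw1 hw11)
      · exact h
    have hxp : IsPGroup q (Subgroup.zpowers x) := by
      apply IsPGroup.of_card (n := 1)
      rw [Nat.card_zpowers, hxo, pow_one]
    obtain ⟨P, hxP'⟩ := hxp.exists_le_sylow
    have hxP : x ∈ (P : Subgroup G) := hxP' (Subgroup.mem_zpowers x)
    have hPodd : ∀ g ∈ (P : Subgroup G), Odd (orderOf g) := by
      intro g hg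
      obtain ⟨k, hk⟩ := (IsPGroup.iff_orderOf.mp P.isPGroup') ⟨g, hg⟩
      rw [Subgroup.orderOf_mk] at hk
      rw [hk]; exact hqodd.pow
    have hPH : (P : Subgroup G) ≤ H := by
      have : Nontrivial (P : Subgroup G) :=
        ⟨⟨⟨x, hxP⟩, 1, fun h => hx1 (congrArg Subtype.val h)⟩⟩
      have := P.isPGroup'.center_nontrivial
      obtain ⟨⟨z, hz⟩, hz1⟩ := exists_ne (1 : Subgroup.center (P : Subgroup G))
      have hzx : (z : G) * x = x * (z : G) := by
        have h1 := Subgroup.mem_center_iff.mp hz ⟨x, hxP⟩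
        have h2 := congrArg Subtype.val h1
        simpa using h2.symm
      have hz1' : (z : G) ≠ 1 := by
        intro h; apply hz1
        apply Subtype.ext; apply Subtype.ext; simpa using h
      have hzH : (z : G) ∈ H := by
        rcases hTI x hxH hx1 z
          (by rw [mul_assoc, ← hzx, ← mul_assoc, inv_mul_cancel, one_mul]; exact hxH) with h | h
        · exact h
        · exact absurd h (hB _ (hPodd _ z.2))
      intro g hg
      have hgz : g * (z : G) = (z : G) * g := by
        have h1 := Subgroup.mem_center_iff.mp hz ⟨g, hg⟩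
        have h2 := congrArg Subtype.val h1
        simpa using h2
      rcases hTI z hzH hz1' g
        (by rw [mul_assoc, ← hgz, ← mul_assoc, inv_mul_cancel, one_mul]; exact hzH) with h | h
      · exact h
      · exact absurd h (hB _ (hPodd _ hg))
    have hPc : IsCyclic (P : Subgroup G) := hcyc q P hPH P.isPGroup'
    obtain ⟨⟨z, hzP⟩, hzgen⟩ := IsCyclic.exists_generator (α := (P : Subgroup G))
    have hgen : ∀ y ∈ (P : Subgroup G), ∃ i : ℕ, z ^ i = y := by
      intro y hy
      have h1 := hzgen ⟨y, hy⟩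
      obtain ⟨i, hi⟩ := (Submonoid.mem_powers_iff _ _).mp (mem_powers_iff_mem_zpowers.mpr h1)
      exact ⟨i, by simpa using congrArg Subtype.val hi⟩
    have hzcomm : ∀ y ∈ (P : Subgroup G), y * z = z * y := by
      intro y hy
      obtain ⟨i, rfl⟩ := hgen y hy
      exact ((Commute.refl z).pow_left i).eq
    have hcommz : ∀ g : G, g * z = z * g → ∀ y ∈ (P : Subgroup G), g * y = y * g := by
      intro g hg y hy
      obtain ⟨i, rfl⟩ := hgen y hy
      exact ((show Commute g z from hg).pow_right i).eq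
    have hPcomm : ∀ y ∈ (P : Subgroup G), ∀ y' ∈ (P : Subgroup G), y * y' = y' * y :=
      fun y hy y' hy' => hcommz y (hzcomm y hy) y' hy'
    have hz1 : z ≠ 1 := by
      rintro rfl
      obtain ⟨i, hi⟩ := hgen x hxP
      rw [one_pow] at hi; exact hx1 hi.symm
    have hzH : z ∈ H := hPH hzP
    obtain ⟨k, hk⟩ : ∃ k, orderOf z = q ^ k := by
      obtain ⟨k, hk⟩ := (IsPGroup.iff_orderOf.mp P.isPGroup') ⟨z, hzP⟩
      exact ⟨k, by rwa [Subgroup.orderOf_mk] at hk⟩
    have hk0 : 0 < k := by
      rcases Nat.eq_zero_or_pos k with h | h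
      · rw [h, pow_zero, orderOf_eq_one_iff] at hk; exact absurd hk hz1
      · exact h
    -- an involution in `S` normalizing `P` and centralizing `x`
    have hPL : (P : Subgroup G) ≤ H ⊓ Subgroup.centralizer {x} := by
      intro y hy
      refine Subgroup.mem_inf.mpr ⟨hPH hy, ?_⟩
      rw [Subgroup.mem_centralizer_iff]
      intro c hc
      rw [Set.mem_singleton_iff] at hc; subst hc
      exact hPcomm c hxP y hy
    have hwPL : ((w1 • P : Sylow q G) : Subgroup G) ≤ H ⊓ Subgroup.centralizer {x} := by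
      intro y hy
      rw [Sylow.coe_subgroup_smul] at hy
      have hy' : w1⁻¹ * y * w1 ∈ (P : Subgroup G) := (mem_conj_smul_sub _ w1 y).mp hy
      have e : y = w1 * (w1⁻¹ * y * w1) * w1⁻¹ := by group
      refine Subgroup.mem_inf.mpr ⟨?_, ?_⟩
      · rw [e]; exact hSn w1 hw1S _ (hPH hy')
      · rw [Subgroup.mem_centralizer_iff]
        intro c hc
        rw [Set.mem_singleton_iff] at hc; subst hc
        have hc2 : Commute w1 c := hcomm1
        have hc3 : Commute c (w1⁻¹ * y * w1) := hPcomm c hxP _ hy'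
        have hc4 : Commute c (w1 * (w1⁻¹ * y * w1) * w1⁻¹) :=
          (hc2.symm.mul_right hc3).mul_right hc2.symm.inv_right
        rw [← e] at hc4; exact hc4.eq
    obtain ⟨l, hlL, hl⟩ := sylow_conj_in (H ⊓ Subgroup.centralizer {x}) P (w1 • P) hPL hwPL
    have hn : (w1 * l) • P = P := by
      rw [mul_smul, hl, ← mul_smul, hw1, one_smul]
    have hnN : w1 * l ∈ Subgroup.normalizer ((P : Subgroup G) : Set G) :=
      Sylow.smul_eq_iff_mem_normalizer.mp hn
    have hlH : l ∈ H := (Subgroup.mem_inf.mp hlL).1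
    have hlx : x * l = l * x := by
      have h1 := (Subgroup.mem_inf.mp hlL).2
      rw [Subgroup.mem_centralizer_iff] at h1
      exact h1 x (Set.mem_singleton x)
    have hnS : w1 * l ∈ S := hSH w1 hw1S l hlH
    have hnx : Commute (w1 * l) x :=
      (show Commute w1 x from hcomm1).mul_left (show Commute l x from hlx.symm)
    obtain ⟨w, hwS, hww, j, hwj⟩ := hC (w1 * l) hnS
    have hwN : w ∈ Subgroup.normalizer ((P : Subgroup G) : Set G) := by
      rw [hwj]; exact Subgroup.pow_mem _ hnN _
    have hwx : Commute w x := by rw [hwj]; exact hnx.pow_left _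
    have hw1' : w ≠ 1 := fun h => hSnot w hwS (h ▸ H.one_mem)
    have hwinv : w⁻¹ = w := inv_eq_of_mul_eq_one_left hww
    have hwconj : ∀ y ∈ (P : Subgroup G), w * y * w⁻¹ ∈ (P : Subgroup G) :=
      fun y hy => (Subgroup.mem_normalizer_iff.mp hwN y).mp hy
    have hq3 : 3 ≤ q := by have := hq.two_le; omega
    -- `w` centralizes `P`
    have hwz : w * z = z * w := by
      obtain ⟨r, hr⟩ := hgen (w * z * w⁻¹) (hwconj z hzP)
      obtain ⟨e, he⟩ := hgen x hxP
      have h1 : x ^ r = x ^ 1 := by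
        rw [pow_one]
        calc x ^ r = (z ^ e) ^ r := by rw [he]
          _ = (z ^ r) ^ e := by rw [← pow_mul, ← pow_mul, mul_comm]
          _ = (w * z * w⁻¹) ^ e := by rw [hr]
          _ = w * z ^ e * w⁻¹ := conj_pow
          _ = w * x * w⁻¹ := by rw [he]
          _ = x := by rw [hwx.eq, mul_inv_cancel_right]
      have h2 : z ^ (r * r) = z ^ 1 := by
        rw [pow_one]
        calc z ^ (r * r) = (z ^ r) ^ r := by rw [pow_mul]
          _ = (w * z * w⁻¹) ^ r := by rw [hr]
          _ = w * z ^ r * w⁻¹ := conj_pow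
          _ = w * (w * z * w⁻¹) * w⁻¹ := by rw [hr]
          _ = (w * w) * z * (w * w)⁻¹ := by group
          _ = z := by rw [hww, one_mul, inv_one, mul_one]
      have m1 : r ≡ 1 [MOD q] := by rw [← hxo]; exact pow_eq_pow_iff_modEq.mp h1
      have m2 : r * r ≡ 1 [MOD q ^ k] := by rw [← hk]; exact pow_eq_pow_iff_modEq.mp h2
      have hnd : ¬ q ∣ 1 + r := by
        intro hd
        have h3 : r % q = 1 := by
          have h4 := m1
          unfold Nat.ModEq at h4
          rw [h4, Nat.mod_eq_of_lt (by omega)]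
        have h5 : (1 + r) % q = 0 := Nat.mod_eq_zero_of_dvd hd
        rw [Nat.add_mod, h3, Nat.mod_eq_of_lt (show 1 < q by omega),
          Nat.mod_eq_of_lt (show 1 + 1 < q by omega)] at h5
        omega
      have m3 : r ≡ 1 [MOD q ^ k] := by
        have hcop : IsCoprime ((q : ℤ) ^ k) (1 + (r : ℤ)) := by
          apply IsCoprime.pow_left
          have : Nat.Coprime q (1 + r) := (Nat.Prime.coprime_iff_not_dvd hq).mpr hnd
          exact_mod_cast (Nat.isCoprime_iff_coprime.mpr this)
        rw [Nat.modEq_iff_dvd] at m2 ⊢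
        push_cast at m2 ⊢
        have h6 : ((q : ℤ) ^ k) ∣ (1 - (r : ℤ)) * (1 + r) := by
          have : (1 - (r : ℤ)) * (1 + r) = 1 - r * r := by ring
          rw [this]; exact m2
        exact hcop.dvd_of_dvd_mul_right h6
      have h7 : z ^ r = z ^ 1 := pow_eq_pow_iff_modEq.mpr (by rw [hk]; exact m3)
      rw [pow_one] at h7
      rw [h7] at hr
      calc w * z = w * z * w⁻¹ * w := by group
        _ = z * w := by rw [← hr]
    -- elements of `N_H(P)` commuting with `w` centralize `P`
    have hcent : ∀ c ∈ H, c ∈ Subgroup.normalizer ((P : Subgroup G) : Set G) → w * c = c * w →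
        c * z = z * c := by
      intro c hcH hcN hcw
      have hcz : c * z * c⁻¹ ∈ (P : Subgroup G) := (Subgroup.mem_normalizer_iff.mp hcN z).mp hzP
      obtain ⟨r, hr⟩ := hgen _ hcz
      have hiter : ∀ i : ℕ, c ^ i * z * (c ^ i)⁻¹ = z ^ (r ^ i) := by
        intro i
        induction i with
        | zero => simp
        | succ i ih =>
          calc c ^ (i + 1) * z * (c ^ (i + 1))⁻¹ = c * (c ^ i * z * (c ^ i)⁻¹) * c⁻¹ := by
                rw [pow_succ']; group
            _ = c * z ^ (r ^ i) * c⁻¹ := by rw [ih]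
            _ = (c * z * c⁻¹) ^ (r ^ i) := conj_pow.symm
            _ = (z ^ r) ^ (r ^ i) := by rw [hr]
            _ = z ^ (r ^ (i + 1)) := by rw [← pow_mul, pow_succ']
      have hrc : Nat.Coprime r (q ^ k) := by
        have h1 : orderOf (z ^ r) = orderOf z := by
          rw [hr]; exact (MulAut.conj c).orderOf_eq z
        rw [orderOf_pow, hk] at h1
        have hpos : q ^ k ≠ 0 := (pow_pos hq.pos k).ne'
        rcases Nat.div_eq_self.mp h1 with h | h
        · exact absurd h hpos
        · rw [Nat.coprime_comm]; exact h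
      have hphi : c ^ (Nat.totient (q ^ k)) * z = z * c ^ (Nat.totient (q ^ k)) := by
        have h1 := hiter (Nat.totient (q ^ k))
        have h2 : z ^ (r ^ Nat.totient (q ^ k)) = z ^ 1 :=
          pow_eq_pow_iff_modEq.mpr (by rw [hk]; exact Nat.ModEq.pow_totient hrc)
        rw [h2, pow_one] at h1
        calc c ^ (Nat.totient (q ^ k)) * z
            = c ^ (Nat.totient (q ^ k)) * z * (c ^ (Nat.totient (q ^ k)))⁻¹
              * c ^ (Nat.totient (q ^ k)) := by group
          _ = z * c ^ (Nat.totient (q ^ k)) := by rw [h1]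
      obtain ⟨j', o', hqo', ho⟩ :=
        Nat.exists_eq_pow_mul_and_not_dvd (orderOf_pos c).ne' q hq.ne_one
      have hc1P : c ^ o' ∈ (P : Subgroup G) := by
        have hp1 : IsPGroup q (Subgroup.zpowers (c ^ o')) := by
          apply IsPGroup.of_card_dvd_pow (n := j')
          rw [Nat.card_zpowers]
          apply orderOf_dvd_of_pow_eq_one
          rw [← pow_mul, mul_comm, ← ho, pow_orderOf_eq_one]
        have hle : Subgroup.zpowers (c ^ o') ≤ Subgroup.normalizer ((P : Subgroup G) : Set G) := by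
          rw [Subgroup.zpowers_le]; exact Subgroup.pow_mem _ hcN _
        have h2 := hp1.to_sup_of_normal_right' P.isPGroup' hle
        have h3 := P.is_maximal' h2 le_sup_right
        rw [← h3]; exact Subgroup.mem_sup_left (Subgroup.mem_zpowers _)
      have hc1 : c ^ o' * z = z * c ^ o' := hPcomm _ hc1P z hzP
      have hcop : Nat.Coprime o' (Nat.totient (q ^ k)) := by
        rw [Nat.totient_prime_pow hq hk0]
        apply Nat.Coprime.mul_right
        · apply Nat.Coprime.pow_right
          exact ((Nat.Prime.coprime_iff_not_dvd hq).mpr hqo').symm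
        · by_contra hnc
          obtain ⟨p, hp, hpd⟩ := Nat.exists_prime_and_dvd hnc
          have hpo' : p ∣ o' := hpd.trans (Nat.gcd_dvd_left _ _)
          have hpq1 : p ∣ q - 1 := hpd.trans (Nat.gcd_dvd_right _ _)
          have hplt : p < q := by
            have := Nat.le_of_dvd (by omega) hpq1
            omega
          have hpo : p ∣ orderOf c := by rw [ho]; exact Dvd.dvd.mul_left hpo' _
          apply hmin p hplt
          refine ⟨hp, w, c ^ (orderOf c / p), hww, hw1', H.pow_mem hcH _,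
            orderOf_pow_orderOf_div (orderOf_pos c).ne' hpo, ?_⟩
          exact ((show Commute w c from hcw).pow_right _).eq
      have hb : (1 : ℤ) = (o' : ℤ) * Nat.gcdA o' (Nat.totient (q ^ k))
          + (Nat.totient (q ^ k) : ℤ) * Nat.gcdB o' (Nat.totient (q ^ k)) := by
        have h1 := Nat.gcd_eq_gcd_ab o' (Nat.totient (q ^ k))
        rw [hcop.gcd_eq_one] at h1
        exact_mod_cast h1
      have hcd : c = (c ^ o') ^ (Nat.gcdA o' (Nat.totient (q ^ k)))
          * (c ^ (Nat.totient (q ^ k))) ^ (Nat.gcdB o' (Nat.totient (q ^ k))) := by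
        rw [← zpow_natCast, ← zpow_natCast, ← zpow_mul, ← zpow_mul, ← zpow_add, ← hb, zpow_one]
      rw [hcd]
      exact (((show Commute (c ^ o') z from hc1).zpow_left _).mul_left
        ((show Commute (c ^ (Nat.totient (q ^ k))) z from hphi).zpow_left _)).eq
    -- `N_H(P)` centralizes `P`
    have hNH : ∀ g ∈ H, g ∈ Subgroup.normalizer ((P : Subgroup G) : Set G) → g * z = z * g := by
      intro g hgH hgN
      have hgz : g * z * g⁻¹ ∈ (P : Subgroup G) := (Subgroup.mem_normalizer_iff.mp hgN z).mp hzP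
      obtain ⟨u, hu⟩ : ∃ u, u = g⁻¹ * (w * g * w⁻¹) := ⟨_, rfl⟩
      have huH : u ∈ H := by rw [hu]; exact H.mul_mem (H.inv_mem hgH) (hSn w hwS g hgH)
      have huz : u * z = z * u := by
        have h1 : w * (g * z * g⁻¹) = (g * z * g⁻¹) * w := hcommz w hwz _ hgz
        have h2 : (w * g * w⁻¹) * z = (g * z * g⁻¹) * (w * g * w⁻¹) := by
          have h3 : w⁻¹ * z = z * w⁻¹ := by rw [hwinv]; exact hwz
          calc (w * g * w⁻¹) * z = w * g * (w⁻¹ * z) := by group
            _ = w * g * (z * w⁻¹) := by rw [h3]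
            _ = w * (g * z * g⁻¹) * (g * w⁻¹) := by group
            _ = (g * z * g⁻¹) * w * (g * w⁻¹) := by rw [h1]
            _ = (g * z * g⁻¹) * (w * g * w⁻¹) := by group
        calc u * z = g⁻¹ * ((w * g * w⁻¹) * z) := by rw [hu]; group
          _ = g⁻¹ * ((g * z * g⁻¹) * (w * g * w⁻¹)) := by rw [h2]
          _ = z * u := by rw [hu]; group
      have hwu : w * u * w⁻¹ = u⁻¹ := by
        rw [hu, hwinv]
        calc w * (g⁻¹ * (w * g * w)) * w = w * g⁻¹ * w * g * (w * w) := by group
          _ = w * g⁻¹ * w * g := by rw [hww, mul_one]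
          _ = w⁻¹ * g⁻¹ * w⁻¹ * g := by rw [hwinv]
          _ = (g⁻¹ * (w⁻¹⁻¹ * g * w⁻¹⁻¹))⁻¹ := by group
          _ = (g⁻¹ * (w * g * w))⁻¹ := by rw [inv_inv]
      obtain ⟨t, ht⟩ := hHodd u huH
      obtain ⟨m, hm⟩ : ∃ m, m = u ^ (t + 1) := ⟨_, rfl⟩
      have hmm : m * m = u := by
        rw [hm, ← pow_add]
        have h1 : t + 1 + (t + 1) = orderOf u + 1 := by omega
        rw [h1, pow_succ, pow_orderOf_eq_one, one_mul]
      have hmH : m ∈ H := by rw [hm]; exact H.pow_mem huH _
      have hmz : m * z = z * m := by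
        rw [hm]; exact ((show Commute u z from huz).pow_left _).eq
      have hwm : w * m * w⁻¹ = m⁻¹ := by
        rw [hm, ← conj_pow, hwu, inv_pow]
      have hcH : g * m ∈ H := H.mul_mem hgH hmH
      have hcw : w * (g * m) = (g * m) * w := by
        have h1 : w * g * w⁻¹ = g * u := by rw [hu]; group
        have h2 : w * (g * m) * w⁻¹ = g * m := by
          calc w * (g * m) * w⁻¹ = (w * g * w⁻¹) * (w * m * w⁻¹) := by group
            _ = g * u * m⁻¹ := by rw [h1, hwm]
            _ = g * (m * m) * m⁻¹ := by rw [hmm]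
            _ = g * m := by group
        calc w * (g * m) = w * (g * m) * w⁻¹ * w := by group
          _ = (g * m) * w := by rw [h2]
      have hmN : m ∈ Subgroup.normalizer ((P : Subgroup G) : Set G) := by
        apply Subgroup.centralizer_le_normalizer
        rw [Subgroup.mem_centralizer_iff]
        intro y hy
        exact (hcommz m hmz y hy).symm
      have hcN : g * m ∈ Subgroup.normalizer ((P : Subgroup G) : Set G) :=
        Subgroup.mul_mem _ hgN hmN
      have hcz : (g * m) * z = z * (g * m) := hcent _ hcH hcN hcw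
      have hg : g = (g * m) * m⁻¹ := by group
      rw [hg]
      exact ((show Commute (g * m) z from hcz).mul_left
        (show Commute m z from hmz).inv_left).eq
    have hNC : Subgroup.normalizer ((P : Subgroup G) : Set G)
        ≤ Subgroup.centralizer ((P : Subgroup G) : Set G) := by
      intro g hgN
      have hgz : g * z = z * g := by
        have hginv : g⁻¹ * z * g ∈ (P : Subgroup G) := by
          have h1 := (Subgroup.mem_normalizer_iff.mp (Subgroup.inv_mem _ hgN) z).mp hzP
          simpa using h1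
        rcases hTI z hzH hz1 g (hPH hginv) with h | h
        · exact hNH g h hgN
        · have h1 : g * w ∈ H := hSS g h w hwS
          have h2 : g * w ∈ Subgroup.normalizer ((P : Subgroup G) : Set G) :=
            Subgroup.mul_mem _ hgN hwN
          have h3 := hNH _ h1 h2
          have h4 : g = (g * w) * w⁻¹ := by group
          rw [h4]
          exact ((show Commute (g * w) z from h3).mul_left
            (show Commute w z from hwz).inv_left).eq
      rw [Subgroup.mem_centralizer_iff]
      intro y hy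
      exact (hcommz g hgz y hy).symm
    have hcompl := MonoidHom.ker_transferSylow_isComplement' P hNC
    apply hnil q hq hqH
    refine ⟨(MonoidHom.transferSylow P hNC).ker, MonoidHom.normal_ker _, ?_⟩
    rw [hcompl.symm.index_eq_card]
    exact P.card_eq_multiplicity
  -- every element of `S` is an involution
  have hinv : ∀ s ∈ S, s * s = 1 := by
    intro s hs
    obtain ⟨w, hwS, hww, -⟩ := hC s hs
    have hw1 : w ≠ 1 := fun h => hSnot w hwS (h ▸ H.one_mem)
    have hwinv : w⁻¹ = w := inv_eq_of_mul_eq_one_left hww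
    obtain ⟨f, hf⟩ : ∃ f : H → H, ∀ h : H, ((f h : H) : G) = (h : G)⁻¹ * (w * h * w⁻¹) :=
      ⟨fun h => ⟨(h : G)⁻¹ * (w * h * w⁻¹), H.mul_mem (H.inv_mem h.2) (hSn w hwS h h.2)⟩,
        fun h => rfl⟩
    have hfinj : Function.Injective f := by
      intro h h' hh
      have h1 : (h : G)⁻¹ * (w * h * w⁻¹) = (h' : G)⁻¹ * (w * h' * w⁻¹) := by
        rw [← hf, ← hf, hh]
      have h3 : (h : G)⁻¹ * w * h = (h' : G)⁻¹ * w * h' := by
        calc (h : G)⁻¹ * w * h = (h : G)⁻¹ * (w * h * w⁻¹) * w := by group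
          _ = (h' : G)⁻¹ * (w * h' * w⁻¹) * w := by rw [h1]
          _ = (h' : G)⁻¹ * w * h' := by group
      have h2 : w * ((h' : G) * (h : G)⁻¹) = ((h' : G) * (h : G)⁻¹) * w := by
        calc w * ((h' : G) * (h : G)⁻¹) = h' * ((h' : G)⁻¹ * w * h') * (h : G)⁻¹ := by group
          _ = h' * ((h : G)⁻¹ * w * h) * (h : G)⁻¹ := by rw [h3]
          _ = ((h' : G) * (h : G)⁻¹) * w := by group
      by_contra hne
      have hne' : (h' : G) * (h : G)⁻¹ ≠ 1 := by
        intro h4
        apply hne
        apply Subtype.ext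
        exact (mul_inv_eq_one.mp h4).symm
      exact key w _ hww hw1 (H.mul_mem h'.2 (H.inv_mem h.2)) hne' h2
    have hsurj : Function.Surjective f := Finite.injective_iff_surjective.mp hfinj
    obtain ⟨h, hh⟩ := hsurj ⟨s * w, hSS s hs w hwS⟩
    have h1 : (h : G)⁻¹ * (w * h * w⁻¹) = s * w := by rw [← hf, hh]
    have h2 : s = (h : G)⁻¹ * w * h := by
      calc s = s * w * w⁻¹ := by group
        _ = (h : G)⁻¹ * (w * h * w⁻¹) * w⁻¹ := by rw [h1]
        _ = (h : G)⁻¹ * w * h * (w⁻¹ * w⁻¹) := by group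
        _ = (h : G)⁻¹ * w * h := by rw [hwinv, hww, mul_one]
    rw [h2]
    calc (h : G)⁻¹ * w * h * ((h : G)⁻¹ * w * h) = (h : G)⁻¹ * (w * w) * h := by group
      _ = 1 := by rw [hww]; group
  intro s hs h hh
  have h1 := hinv (s * h) (hSH s hs h hh)
  have h2 : s⁻¹ = s := inv_eq_of_mul_eq_one_left (hinv s hs)
  rw [h2]
  calc s * h * s = s * h * (s * h) * h⁻¹ := by group
    _ = h⁻¹ := by rw [h1, one_mul]

end Cfsg.Agent.Helper18
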