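import Mathlib
import Cfsg.Agent.Helper18.OddTI

set_option autoImplicit false

namespace Cfsg.Agent.Helper18

/-- In a minimal cover, a proper subgroup contains at most one member. -/
theorem nc_le_unique {G : Type*} [Group G] (𝓐 : Finset (Subgroup G))
    (hprop : ∀ A ∈ 𝓐, A ≠ ⊤) (hcov : ∀ g : G, ∃ A ∈ 𝓐, g ∈ A)
    (hmin : ∀ 𝓑 : Finset (Subgroup G),
      (∀ A ∈ 𝓑, A ≠ ⊤) ∧ (∀ g : G, ∃ A ∈ 𝓑, g ∈ A) → 𝓐.card ≤ 𝓑.card)
    {H A₁ A₂ : Subgroup G} (hH : H ≠ ⊤) (h1 : A₁ ∈ 𝓐) (h2 : A₂ ∈ 𝓐) (l1 : A₁ ≤ H)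
    (l2 : A₂ ≤ H) : A₁ = A₂ := by
  classical
  by_contra hne
  have hB := hmin (insert H ((𝓐.erase A₁).erase A₂)) ⟨?_, ?_⟩
  · have h2' : A₂ ∈ 𝓐.erase A₁ := Finset.mem_erase.mpr ⟨fun h => hne h.symm, h2⟩
    have c1 : ((𝓐.erase A₁).erase A₂).card = 𝓐.card - 2 := by
      rw [Finset.card_erase_of_mem h2', Finset.card_erase_of_mem h1]; omega
    have c2 := Finset.card_insert_le H ((𝓐.erase A₁).erase A₂)
    have c3 : 2 ≤ 𝓐.card := by
      have hsub : ({A₁, A₂} : Finset (Subgroup G)) ⊆ 𝓐 := by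
        intro x hx
        simp only [Finset.mem_insert, Finset.mem_singleton] at hx
        rcases hx with rfl | rfl <;> assumption
      have := Finset.card_le_card hsub
      rwa [Finset.card_pair hne] at this
    omega
  · intro A hA
    rcases Finset.mem_insert.mp hA with rfl | hA
    · exact hH
    · exact hprop A (Finset.mem_of_mem_erase (Finset.mem_of_mem_erase hA))
  · intro g
    obtain ⟨A, hA, hg⟩ := hcov g
    by_cases e1 : A = A₁
    · exact ⟨H, Finset.mem_insert_self _ _, l1 (e1 ▸ hg)⟩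
    by_cases e2 : A = A₂
    · exact ⟨H, Finset.mem_insert_self _ _, l2 (e2 ▸ hg)⟩
    exact ⟨A, Finset.mem_insert_of_mem
      (Finset.mem_erase.mpr ⟨e2, Finset.mem_erase.mpr ⟨e1, hA⟩⟩), hg⟩

/-- In a nilpotent subgroup of a group whose `p`-subgroups are abelian, `p`-elements are
central. -/
theorem nc_central {G : Type*} [Group G] [Finite G] {p : ℕ} [Fact p.Prime]
    (hab : ∀ Q : Subgroup G, IsPGroup p Q → ∀ a ∈ Q, ∀ b ∈ Q, a * b = b * a)
    (A : Subgroup G) (hA : Group.IsNilpotent ↥A) {z : G} (hzA : z ∈ A) {k : ℕ}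
    (hz : z ^ (p ^ k) = 1) {a : G} (haA : a ∈ A) : a * z = z * a := by
  classical
  have hp := (Fact.out : p.Prime)
  obtain ⟨φ⟩ := ((Group.isNilpotent_of_finite_tfae (G := ↥A)).out 0 4 rfl rfl).mp hA
  obtain ⟨f, hf⟩ : ∃ f, f = φ.symm ⟨z, hzA⟩ := ⟨_, rfl⟩
  obtain ⟨b, hb⟩ : ∃ b, b = φ.symm ⟨a, haA⟩ := ⟨_, rfl⟩
  have hfk : f ^ (p ^ k) = 1 := by
    rw [hf, ← map_pow]
    have : (⟨z, hzA⟩ : ↥A) ^ (p ^ k) = 1 := Subtype.ext (by simpa using hz)
    rw [this, map_one]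
  have hcomm : b * f = f * b := by
    funext q
    funext Q
    show b q Q * f q Q = f q Q * b q Q
    by_cases hq : (q : ℕ) = p
    · have h1 : IsPGroup p ↥(Q : Subgroup ↥A) := by
        intro g
        obtain ⟨j, hj⟩ := Q.isPGroup' g
        exact ⟨j, by rw [← hq]; exact hj⟩
      have hQ : IsPGroup p ↥((Q : Subgroup ↥A).map A.subtype) := h1.map A.subtype
      have h2 := hab _ hQ ((b q Q : ↥A) : G) ⟨_, (b q Q).2, rfl⟩ ((f q Q : ↥A) : G)
        ⟨_, (f q Q).2, rfl⟩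
      apply Subtype.ext
      apply Subtype.ext
      exact h2
    · have hq' : (q : ℕ).Prime := Nat.prime_of_mem_primeFactors q.2
      have h1 : f q Q = 1 := by
        have e1 : (f q Q) ^ (p ^ k) = 1 := by
          have := congrFun (congrFun hfk q) Q
          simpa using this
        obtain ⟨j, hj⟩ := Q.isPGroup' (f q Q)
        have d1 : orderOf (f q Q) ∣ p ^ k := orderOf_dvd_of_pow_eq_one e1
        have d2 : orderOf (f q Q) ∣ (q : ℕ) ^ j := orderOf_dvd_of_pow_eq_one hj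
        have cop : Nat.Coprime (p ^ k) ((q : ℕ) ^ j) :=
          Nat.Coprime.pow _ _ ((Nat.coprime_primes hp hq').mpr (Ne.symm hq))
        have : orderOf (f q Q) = 1 := Nat.eq_one_of_dvd_coprimes cop d1 d2
        exact orderOf_eq_one_iff.mp this
      rw [h1, mul_one, one_mul]
  have h3 := congrArg φ hcomm
  rw [map_mul, map_mul, hf, hb, MulEquiv.apply_symm_apply, MulEquiv.apply_symm_apply] at h3
  exact congrArg Subtype.val h3

/-- Each nonidentity `p`-element lies in exactly one member of a nilpotent minimal cover of a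
centerless group with abelian Sylow `p`-subgroups. -/
theorem nc_unique_member {G : Type*} [Group G] [Finite G] (hZ : Subgroup.center G = ⊥)
    (𝓐 : Finset (Subgroup G))
    (hprop : ∀ A ∈ 𝓐, A ≠ ⊤) (hcov : ∀ g : G, ∃ A ∈ 𝓐, g ∈ A)
    (hmin : ∀ 𝓑 : Finset (Subgroup G),
      (∀ A ∈ 𝓑, A ≠ ⊤) ∧ (∀ g : G, ∃ A ∈ 𝓑, g ∈ A) → 𝓐.card ≤ 𝓑.card)
    (hnil : ∀ A ∈ 𝓐, Group.IsNilpotent ↥A) {p : ℕ} [Fact p.Prime]
    (hab : ∀ Q : Subgroup G, IsPGroup p Q → ∀ a ∈ Q, ∀ b ∈ Q, a * b = b * a)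
    {z : G} (hz1 : z ≠ 1) {k : ℕ} (hz : z ^ (p ^ k) = 1) {A₁ A₂ : Subgroup G}
    (h1 : A₁ ∈ 𝓐) (h2 : A₂ ∈ 𝓐) (m1 : z ∈ A₁) (m2 : z ∈ A₂) : A₁ = A₂ := by
  have hC : Subgroup.centralizer ({z} : Set G) ≠ ⊤ := by
    intro h
    apply hz1
    have hzc : z ∈ Subgroup.center G := by
      rw [Subgroup.mem_center_iff]
      intro g
      have hg : g ∈ Subgroup.centralizer ({z} : Set G) := h ▸ Subgroup.mem_top g
      rw [Subgroup.mem_centralizer_iff] at hg
      exact (hg z rfl).symm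
    rw [hZ, Subgroup.mem_bot] at hzc
    exact hzc
  refine nc_le_unique 𝓐 hprop hcov hmin hC h1 h2 ?_ ?_
  · intro a ha
    rw [Subgroup.mem_centralizer_iff]
    intro y hy
    rw [Set.mem_singleton_iff] at hy
    rw [hy]
    exact (nc_central hab A₁ (hnil A₁ h1) m1 hz ha).symm
  · intro a ha
    rw [Subgroup.mem_centralizer_iff]
    intro y hy
    rw [Set.mem_singleton_iff] at hy
    rw [hy]
    exact (nc_central hab A₂ (hnil A₂ h2) m2 hz ha).symm

/-- A `p`-element normalizing a Sylow `p`-subgroup lies in it. -/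
theorem nc_mem_sylow {G : Type*} [Group G] {p : ℕ} [Fact p.Prime] (P : Sylow p G) {y : G}
    (hy : y ∈ Subgroup.normalizer ((P : Subgroup G) : Set G)) {k : ℕ} (hyk : y ^ (p ^ k) = 1) :
    y ∈ (P : Subgroup G) := by
  have hz : IsPGroup p ↥(Subgroup.zpowers y) := by
    rintro ⟨g, hg⟩
    obtain ⟨i, rfl⟩ := Subgroup.mem_zpowers_iff.mp hg
    refine ⟨k, Subtype.ext ?_⟩
    show (y ^ i) ^ (p ^ k) = 1
    rw [← zpow_natCast, ← zpow_mul, mul_comm, zpow_mul, zpow_natCast, hyk, one_zpow]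
  have hle : Subgroup.zpowers y ≤ Subgroup.normalizer ((P : Subgroup G) : Set G) := by
    rw [Subgroup.zpowers_le]; exact hy
  have hsup := IsPGroup.to_sup_of_normal_right' hz P.isPGroup' hle
  have h1 := P.is_maximal' hsup le_sup_right
  have h2 : y ∈ Subgroup.zpowers y ⊔ (P : Subgroup G) :=
    Subgroup.mem_sup_left (Subgroup.mem_zpowers y)
  rw [h1] at h2
  exact h2

theorem nc_smul_mem {G : Type*} [Group G] {p : ℕ} [Fact p.Prime] (P : Sylow p G) (g x : G) :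
    x ∈ ((g • P : Sylow p G) : Subgroup G) ↔ g⁻¹ * x * g ∈ (P : Subgroup G) := by
  rw [Sylow.coe_subgroup_smul]; exact mem_conj_smul_sub _ g x

theorem nc_conj_mem {G : Type*} [Group G] {p : ℕ} [Fact p.Prime] (P : Sylow p G) {x : G}
    (hx : x ∈ (P : Subgroup G)) (g : G) : g * x * g⁻¹ ∈ ((g • P : Sylow p G) : Subgroup G) := by
  rw [nc_smul_mem]
  have : g⁻¹ * (g * x * g⁻¹) * g = x := by group
  rw [this]; exact hx

/-- If an abelian Sylow subgroup and a conjugate have the same centralizer, they are equal. -/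
theorem nc_conj_eq {G : Type*} [Group G] {p : ℕ} [Fact p.Prime] (P : Sylow p G)
    (hPab : ∀ a ∈ (P : Subgroup G), ∀ b ∈ (P : Subgroup G), a * b = b * a) (g : G)
    (hc : Subgroup.centralizer (((g • P : Sylow p G) : Subgroup G) : Set G) =
      Subgroup.centralizer ((P : Subgroup G) : Set G)) :
    g ∈ Subgroup.normalizer ((P : Subgroup G) : Set G) := by
  have h1 : ((g • P : Sylow p G) : Subgroup G) ≤ (P : Subgroup G) := by
    intro y hy
    have hyc : y ∈ Subgroup.centralizer (((g • P : Sylow p G) : Subgroup G) : Set G) := by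
      rw [Subgroup.mem_centralizer_iff]
      intro h hh
      have e1 := hPab _ ((nc_smul_mem P g h).mp hh) _ ((nc_smul_mem P g y).mp hy)
      have e2 : h * y = g * (g⁻¹ * h * g * (g⁻¹ * y * g)) * g⁻¹ := by group
      rw [e2, e1]; group
    rw [hc] at hyc
    have hyn : y ∈ Subgroup.normalizer ((P : Subgroup G) : Set G) :=
      Subgroup.centralizer_le_normalizer _ hyc
    obtain ⟨k, hk⟩ := (g • P).isPGroup' ⟨y, hy⟩
    exact nc_mem_sylow P hyn (k := k) (by simpa using congrArg Subtype.val hk)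
  have h2 := (g • P).is_maximal' P.isPGroup' h1
  exact Sylow.smul_eq_iff_mem_normalizer.mp (Sylow.ext h2.symm)

/-- All `p`-subgroups are abelian when a Sylow `p`-subgroup is. -/
theorem nc_hab {G : Type*} [Group G] [Finite G] {p : ℕ} [Fact p.Prime] (P : Sylow p G)
    (hPab : ∀ a ∈ (P : Subgroup G), ∀ b ∈ (P : Subgroup G), a * b = b * a) :
    ∀ Q : Subgroup G, IsPGroup p Q → ∀ a ∈ Q, ∀ b ∈ Q, a * b = b * a := by
  intro Q hQ a ha b hb
  obtain ⟨R, hR⟩ := hQ.exists_le_sylow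
  obtain ⟨g, rfl⟩ := MulAction.exists_smul_eq G P R
  have e1 := hPab _ ((nc_smul_mem P g a).mp (hR ha)) _ ((nc_smul_mem P g b).mp (hR hb))
  have e2 : a * b = g * (g⁻¹ * a * g * (g⁻¹ * b * g)) * g⁻¹ := by group
  rw [e2, e1]; group

/-- The witness condition is stable under conjugation. -/
theorem nc_wit_conj {G : Type*} [Group G] {p : ℕ} [Fact p.Prime] (P : Sylow p G) {x : G}
    (hxP : x ∈ (P : Subgroup G)) (hx1 : x ≠ 1)
    (hx : (P : Subgroup G) ≤ Subgroup.zpowers x ∨ x ^ p ≠ 1) (g : G) :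
    g * x * g⁻¹ ∈ ((g • P : Sylow p G) : Subgroup G) ∧ g * x * g⁻¹ ≠ 1 ∧
      (((g • P : Sylow p G) : Subgroup G) ≤ Subgroup.zpowers (g * x * g⁻¹) ∨
        (g * x * g⁻¹) ^ p ≠ 1) := by
  refine ⟨nc_conj_mem P hxP g, ?_, ?_⟩
  · intro h
    apply hx1
    have e : x = g⁻¹ * (g * x * g⁻¹) * g := by group
    rw [e, h]; group
  · rcases hx with hx | hx
    · left
      intro y hy
      have h1 := hx ((nc_smul_mem P g y).mp hy)
      obtain ⟨i, hi⟩ := Subgroup.mem_zpowers_iff.mp h1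
      rw [Subgroup.mem_zpowers_iff]
      refine ⟨i, ?_⟩
      rw [conj_zpow, hi]; group
    · right
      intro h
      apply hx
      rw [conj_pow] at h
      have e : x ^ p = g⁻¹ * (g * x ^ p * g⁻¹) * g := by group
      rw [e, h]; group

/-- Main lemma: a Sylow `p`-subgroup with a witness lies in a member `A`, and `C_G(Q) = A`. -/
theorem nc_main {G : Type*} [Group G] [Finite G] (hZ : Subgroup.center G = ⊥)
    (𝓐 : Finset (Subgroup G))
    (hprop : ∀ A ∈ 𝓐, A ≠ ⊤) (hcov : ∀ g : G, ∃ A ∈ 𝓐, g ∈ A)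
    (hmin : ∀ 𝓑 : Finset (Subgroup G),
      (∀ A ∈ 𝓑, A ≠ ⊤) ∧ (∀ g : G, ∃ A ∈ 𝓑, g ∈ A) → 𝓐.card ≤ 𝓑.card)
    (hnil : ∀ A ∈ 𝓐, Group.IsNilpotent ↥A) {p : ℕ} [Fact p.Prime]
    (hab : ∀ Q : Subgroup G, IsPGroup p Q → ∀ a ∈ Q, ∀ b ∈ Q, a * b = b * a)
    (Q : Sylow p G) {x : G} (hxQ : x ∈ (Q : Subgroup G)) (hx1 : x ≠ 1)
    (hx : (Q : Subgroup G) ≤ Subgroup.zpowers x ∨ x ^ p ≠ 1) :
    ∃ A ∈ 𝓐, (Q : Subgroup G) ≤ A ∧ Subgroup.centralizer ((Q : Subgroup G) : Set G) = A := by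
  classical
  have hp := (Fact.out : p.Prime)
  have huniq : ∀ {z : G}, z ≠ 1 → ∀ {k : ℕ}, z ^ (p ^ k) = 1 → ∀ {A₁ A₂ : Subgroup G},
      A₁ ∈ 𝓐 → A₂ ∈ 𝓐 → z ∈ A₁ → z ∈ A₂ → A₁ = A₂ :=
    fun hz1 _ hz _ _ h1 h2 m1 m2 =>
      nc_unique_member hZ 𝓐 hprop hcov hmin hnil hab hz1 hz h1 h2 m1 m2
  have hQp : ∀ y ∈ (Q : Subgroup G), ∃ k : ℕ, y ^ (p ^ k) = 1 := by
    intro y hy
    obtain ⟨k, hk⟩ := Q.isPGroup' ⟨y, hy⟩
    exact ⟨k, by simpa using congrArg Subtype.val hk⟩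
  have hQab := hab (Q : Subgroup G) Q.isPGroup'
  obtain ⟨A, hA, hxA⟩ := hcov x
  obtain ⟨kx, hkx⟩ := hQp x hxQ
  have hQA : (Q : Subgroup G) ≤ A := by
    rcases hx with hx | hx
    · exact hx.trans (by rw [Subgroup.zpowers_le]; exact hxA)
    · intro y hy
      by_cases hy1 : y = 1
      · rw [hy1]; exact A.one_mem
      have hex := hQp y hy
      obtain ⟨k, hk, hkmin⟩ : ∃ k, y ^ (p ^ k) = 1 ∧ ∀ j < k, ¬ y ^ (p ^ j) = 1 :=
        ⟨Nat.find hex, Nat.find_spec hex, fun j hj => Nat.find_min hex hj⟩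
      have hk0 : k ≠ 0 := by
        rintro rfl
        apply hy1
        simpa using hk
      obtain ⟨j, rfl⟩ := Nat.exists_eq_succ_of_ne_zero hk0
      have hy'1 : y ^ (p ^ j) ≠ 1 := hkmin j (Nat.lt_succ_self j)
      have hy'p : (y ^ (p ^ j)) ^ p = 1 := by rw [← pow_mul, ← pow_succ]; exact hk
      have hy'Q : y ^ (p ^ j) ∈ (Q : Subgroup G) := Subgroup.pow_mem _ hy _
      obtain ⟨A', hA', hm'⟩ := hcov (x * y ^ (p ^ j))
      have hcomm : Commute x (y ^ (p ^ j)) := hQab x hxQ _ hy'Q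
      have hpow : (x * y ^ (p ^ j)) ^ p = x ^ p := by rw [hcomm.mul_pow, hy'p, mul_one]
      have hzA' : x ^ p ∈ A' := hpow ▸ A'.pow_mem hm' p
      have hzk : (x ^ p) ^ (p ^ kx) = 1 := by
        rw [← pow_mul, mul_comm, pow_mul, hkx, one_pow]
      have hAA' : A' = A := huniq hx hzk hA' hA hzA' (A.pow_mem hxA p)
      have hy'A : y ^ (p ^ j) ∈ A := by
        have h3 : x * y ^ (p ^ j) ∈ A := hAA' ▸ hm'
        have h4 := A.mul_mem (A.inv_mem hxA) h3
        simpa using h4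
      obtain ⟨A'', hA'', hm''⟩ := hcov y
      have h5 : A'' = A :=
        huniq hy'1 (k := 1) (by rw [pow_one]; exact hy'p) hA'' hA (A''.pow_mem hm'' _) hy'A
      exact h5 ▸ hm''
  refine ⟨A, hA, hQA, le_antisymm ?_ ?_⟩
  · intro c hc
    rw [Subgroup.mem_centralizer_iff] at hc
    have hn0 : orderOf c ≠ 0 := (orderOf_pos c).ne'
    obtain ⟨k, m, hm, hn⟩ := Nat.exists_eq_pow_mul_and_not_dvd hn0 p hp.ne_one
    obtain ⟨Ac, hAc, hcAc⟩ := hcov c
    have hm0 : m ≠ 0 := by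
      rintro rfl
      rw [mul_zero] at hn
      exact hn0 hn
    by_cases hk0 : k = 0
    · subst hk0
      rw [pow_zero, one_mul] at hn
      obtain ⟨Ag, hAg, hgAg⟩ := hcov (x * c)
      have hcx : Commute x c := hc x hxQ
      have hpow : (x * c) ^ orderOf c = x ^ orderOf c := by
        rw [hcx.mul_pow, pow_orderOf_eq_one, mul_one]
      have hxn1 : x ^ orderOf c ≠ 1 := by
        intro h
        have d1 : orderOf x ∣ orderOf c := orderOf_dvd_of_pow_eq_one h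
        have d2 : orderOf x ∣ p ^ kx := orderOf_dvd_of_pow_eq_one hkx
        obtain ⟨j, -, hjeq⟩ := (Nat.dvd_prime_pow hp).mp d2
        have hj0 : j ≠ 0 := by
          rintro rfl
          rw [pow_zero, orderOf_eq_one_iff] at hjeq
          exact hx1 hjeq
        apply hm
        rw [← hn]
        exact (dvd_pow_self p hj0).trans (hjeq ▸ d1)
      have hxnk : (x ^ orderOf c) ^ (p ^ kx) = 1 := by
        rw [← pow_mul, mul_comm, pow_mul, hkx, one_pow]
      have hAgA : Ag = A :=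
        huniq hxn1 hxnk hAg hA (hpow ▸ Ag.pow_mem hgAg _) (A.pow_mem hxA _)
      have h3 : x * c ∈ A := hAgA ▸ hgAg
      have h4 := A.mul_mem (A.inv_mem hxA) h3
      simpa using h4
    · have hmlt : m < orderOf c := by
        rw [hn]
        have h2 : 2 ≤ p ^ k :=
          calc 2 ≤ p := hp.two_le
            _ = p ^ 1 := (pow_one p).symm
            _ ≤ p ^ k := Nat.pow_le_pow_right hp.pos (Nat.one_le_iff_ne_zero.mpr hk0)
        nlinarith [Nat.pos_of_ne_zero hm0]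
      have hy1 : c ^ m ≠ 1 := pow_ne_one_of_lt_orderOf hm0 hmlt
      have hyk : (c ^ m) ^ (p ^ k) = 1 := by
        rw [← pow_mul, mul_comm, ← hn, pow_orderOf_eq_one]
      have hyc : c ^ m ∈ Subgroup.centralizer ((Q : Subgroup G) : Set G) :=
        Subgroup.pow_mem _ (Subgroup.mem_centralizer_iff.mpr hc) _
      have hyQ : c ^ m ∈ (Q : Subgroup G) :=
        nc_mem_sylow Q (Subgroup.centralizer_le_normalizer _ hyc) hyk
      have h5 : Ac = A := huniq hy1 hyk hAc hA (Ac.pow_mem hcAc _) (hQA hyQ)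
      exact h5 ▸ hcAc
  · intro a ha
    rw [Subgroup.mem_centralizer_iff]
    intro y hy
    obtain ⟨k, hk⟩ := hQp y hy
    exact (nc_central hab A (hnil A hA) (hQA hy) hk ha).symm

/-- Everything at once. -/
theorem nc_all {G : Type*} [Group G] [Finite G] (hZ : Subgroup.center G = ⊥)
    (𝓐 : Finset (Subgroup G))
    (hprop : ∀ A ∈ 𝓐, A ≠ ⊤) (hcov : ∀ g : G, ∃ A ∈ 𝓐, g ∈ A)
    (hmin : ∀ 𝓑 : Finset (Subgroup G),
      (∀ A ∈ 𝓑, A ≠ ⊤) ∧ (∀ g : G, ∃ A ∈ 𝓑, g ∈ A) → 𝓐.card ≤ 𝓑.card)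
    (hnil : ∀ A ∈ 𝓐, Group.IsNilpotent ↥A) {p : ℕ} [Fact p.Prime]
    (P : Sylow p G)
    (hPab : ∀ a ∈ (P : Subgroup G), ∀ b ∈ (P : Subgroup G), a * b = b * a)
    (hnn : ¬ (P : Subgroup G).Normal)
    {x : G} (hxP : x ∈ (P : Subgroup G)) (hx1 : x ≠ 1)
    (hx : (P : Subgroup G) ≤ Subgroup.zpowers x ∨ x ^ p ≠ 1) :
    ∃ A ∈ 𝓐, (P : Subgroup G) ≤ A ∧ Subgroup.centralizer ((P : Subgroup G) : Set G) = A ∧
      IsCoatom (Subgroup.normalizer ((P : Subgroup G) : Set G)) ∧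
      (∀ M : Subgroup G, IsCoatom M → Subgroup.centralizer ((P : Subgroup G) : Set G) ≤ M →
        M = Subgroup.normalizer ((P : Subgroup G) : Set G)) ∧
      (∀ g : G, g ∉ Subgroup.normalizer ((P : Subgroup G) : Set G) →
        ¬ p ∣ Nat.card ↥(Subgroup.normalizer ((P : Subgroup G) : Set G) ⊓
          (Subgroup.normalizer ((P : Subgroup G) : Set G)).map (MulAut.conj g).toMonoidHom)) := by
  classical
  have hp := (Fact.out : p.Prime)
  have hab := nc_hab P hPab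
  obtain ⟨A, hA, hPA, hcent⟩ := nc_main hZ 𝓐 hprop hcov hmin hnil hab P hxP hx1 hx
  have hNtop : Subgroup.normalizer ((P : Subgroup G) : Set G) ≠ ⊤ :=
    fun h => hnn (Subgroup.normalizer_eq_top_iff.mp h)
  have hU : ∀ M : Subgroup G, IsCoatom M →
      Subgroup.centralizer ((P : Subgroup G) : Set G) ≤ M →
      M = Subgroup.normalizer ((P : Subgroup G) : Set G) := by
    intro M hM hle
    have hMN : M ≤ Subgroup.normalizer ((P : Subgroup G) : Set G) := by
      intro m hm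
      obtain ⟨w1, w2, w3⟩ := nc_wit_conj P hxP hx1 hx m
      obtain ⟨A', hA', -, hcent'⟩ := nc_main hZ 𝓐 hprop hcov hmin hnil hab (m • P) w1 w2 w3
      have hA'M : A' ≤ M := by
        intro a ha
        rw [← hcent', Subgroup.mem_centralizer_iff] at ha
        have h1 : m⁻¹ * a * m ∈ Subgroup.centralizer ((P : Subgroup G) : Set G) := by
          rw [Subgroup.mem_centralizer_iff]
          intro y hy
          have e := ha _ (nc_conj_mem P hy m)
          have e2 : y * (m⁻¹ * a * m) = m⁻¹ * (m * y * m⁻¹ * a) * m := by group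
          rw [e2, e]; group
        have h2 := M.mul_mem (M.mul_mem hm (hle h1)) (M.inv_mem hm)
        have e3 : m * (m⁻¹ * a * m) * m⁻¹ = a := by group
        rwa [e3] at h2
      have hAM : A ≤ M := hcent ▸ hle
      have hAA' : A' = A := nc_le_unique 𝓐 hprop hcov hmin hM.1 hA' hA hA'M hAM
      exact nc_conj_eq P hPab m (by rw [hcent', hAA', hcent])
    by_contra hne
    exact hNtop (hM.2 _ (lt_of_le_of_ne hMN hne))
  refine ⟨A, hA, hPA, hcent, ?_, hU, ?_⟩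
  · have hCtop : Subgroup.centralizer ((P : Subgroup G) : Set G) ≠ ⊤ := by
      rw [hcent]; exact hprop A hA
    obtain ⟨M, hM, hle⟩ := (eq_top_or_exists_le_coatom _).resolve_left hCtop
    rw [← hU M hM hle]; exact hM
  · intro g hg hdvd
    obtain ⟨w, hw⟩ := exists_prime_orderOf_dvd_card' (G := ↥(Subgroup.normalizer
      ((P : Subgroup G) : Set G) ⊓ (Subgroup.normalizer ((P : Subgroup G) : Set G)).map
        (MulAut.conj g).toMonoidHom)) p hdvd
    have hwN : (w : G) ∈ Subgroup.normalizer ((P : Subgroup G) : Set G) := w.2.1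
    have hwNg : (w : G) ∈ (Subgroup.normalizer ((P : Subgroup G) : Set G)).map
        (MulAut.conj g).toMonoidHom := w.2.2
    have hw1 : (w : G) ≠ 1 := by
      intro h
      have h' : w = 1 := Subtype.ext h
      rw [h', orderOf_one] at hw
      exact hp.ne_one hw.symm
    have hwp : (w : G) ^ (p ^ 1) = 1 := by
      rw [pow_one]
      have h' := pow_orderOf_eq_one w
      rw [hw] at h'
      have h'' := congrArg Subtype.val h'
      rwa [Subgroup.coe_pow, Subgroup.coe_one] at h''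
    have hwP : (w : G) ∈ (P : Subgroup G) := nc_mem_sylow P hwN hwp
    obtain ⟨n, hnN, hnw⟩ := Subgroup.mem_map.mp hwNg
    have hnw' : g * n * g⁻¹ = (w : G) := by simpa using hnw
    have hnp : n ^ (p ^ 1) = 1 := by
      have h2 : g * n ^ (p ^ 1) * g⁻¹ = 1 := by rw [← conj_pow, hnw', hwp]
      have e : n ^ (p ^ 1) = g⁻¹ * (g * n ^ (p ^ 1) * g⁻¹) * g := by group
      rw [e, h2]; group
    have hnP : n ∈ (P : Subgroup G) := nc_mem_sylow P hnN hnp
    have hwgP : (w : G) ∈ ((g • P : Sylow p G) : Subgroup G) := hnw' ▸ nc_conj_mem P hnP g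
    obtain ⟨w1, w2, w3⟩ := nc_wit_conj P hxP hx1 hx g
    obtain ⟨A', hA', hPA', hcent'⟩ := nc_main hZ 𝓐 hprop hcov hmin hnil hab (g • P) w1 w2 w3
    have hAA' : A' = A :=
      nc_unique_member hZ 𝓐 hprop hcov hmin hnil hab hw1 hwp hA' hA (hPA' hwgP) (hPA hwP)
    exact hg (nc_conj_eq P hPab g (by rw [hcent', hAA', hcent]))

end Cfsg.Agent.Helper18
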