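import Mathlib
import Cfsg.Agent.S4018

/-! Endgame piece for S4016 (team effort): the `p = 3` data contradict simplicity via S4018. -/

set_option autoImplicit false
open Cfsg

namespace Cfsg.Agent.S4016P

/-- An element of a Sylow `3`-subgroup squaring to one is trivial. -/
theorem eg_sq_one {G : Type*} [Group G] [Finite G] (P : Sylow 3 G) {u : G}
    (hu : u ∈ (P : Subgroup G)) (h2 : u * u = 1) : u = 1 := by
  have : Fact (Nat.Prime 3) := ⟨by norm_num⟩
  obtain ⟨n, hn⟩ := IsPGroup.iff_card.mp P.isPGroup'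
  have h1 : orderOf u ∣ 3 ^ n := by
    rw [← hn]; exact Subgroup.orderOf_dvd_natCard _ hu
  have h3 : orderOf u ∣ 2 := orderOf_dvd_of_pow_eq_one (by rw [pow_two]; exact h2)
  have h4 : orderOf u ∣ Nat.gcd 2 (3 ^ n) := Nat.dvd_gcd h3 h1
  have h5 : Nat.gcd 2 (3 ^ n) = 1 := Nat.Coprime.pow_right n (by norm_num)
  rw [h5, Nat.dvd_one, orderOf_eq_one_iff] at h4
  exact h4

/-- `P` has index two in its centralizer when `|C(P)| = 2|P|`. -/
theorem eg_index_two {G : Type*} [Group G] [Finite G] (P : Sylow 3 G)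
    (hPC : (P : Subgroup G) ≤ Subgroup.centralizer ((P : Subgroup G) : Set G))
    (hC : Nat.card (Subgroup.centralizer ((P : Subgroup G) : Set G)) = 2 * Nat.card P) :
    ((P : Subgroup G).subgroupOf (Subgroup.centralizer ((P : Subgroup G) : Set G))).index = 2 := by
  have h1 := Subgroup.card_mul_index
    ((P : Subgroup G).subgroupOf (Subgroup.centralizer ((P : Subgroup G) : Set G)))
  have h2 : Nat.card ((P : Subgroup G).subgroupOf
      (Subgroup.centralizer ((P : Subgroup G) : Set G))) = Nat.card P :=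
    Nat.card_congr (Subgroup.subgroupOfEquivOfLe hPC).toEquiv
  rw [h2, hC] at h1
  have hpos : 0 < Nat.card P := Nat.card_pos
  have h3 : Nat.card P * ((P : Subgroup G).subgroupOf
      (Subgroup.centralizer ((P : Subgroup G) : Set G))).index = Nat.card P * 2 := by
    rw [h1]; ring
  exact Nat.eq_of_mul_eq_mul_left hpos h3

/-- ENDGAME of S4016: a nonabelian-simple minimal counterexample with `p = 3`, `|N(P)| = 4|P|`,
`|C(P)| = 2|P|`, `P` a TI subgroup, `C(t) ≤ N(P)` for the involution `t` of `C(P)` and all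
involutions conjugate into `C(P)` does not exist (by S4018). -/
theorem endgame {G : Type*} [Group G] [Finite G] [IsSimpleGroup G] (P : Sylow 3 G)
    (hcyc : IsCyclic P)
    (hab : ∀ H : Subgroup G, ¬ 3 ∣ Nat.card H → IsMulCommutative H)
    (hmin : ∀ H : Subgroup G, H ≠ ⊤ → ∀ P1 : Sylow 3 H,
      Cfsg.HasNormalPComplement 3 H ∨ (P1 : Subgroup H).Normal)
    (hN : Nat.card (Subgroup.normalizer ((P : Subgroup G) : Set G)) = 4 * Nat.card P)
    (hC : Nat.card (Subgroup.centralizer ((P : Subgroup G) : Set G)) = 2 * Nat.card P)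
    (hTI : ∀ g u : G, u ∈ (P : Subgroup G) → u ≠ 1 → g * u * g⁻¹ ∈ (P : Subgroup G) →
      g ∈ Subgroup.normalizer ((P : Subgroup G) : Set G))
    (hCt : ∀ t : G, t ∈ Subgroup.centralizer ((P : Subgroup G) : Set G) → orderOf t = 2 →
      Subgroup.centralizer ({t} : Set G) ≤ Subgroup.normalizer ((P : Subgroup G) : Set G))
    (hinv : ∀ x : G, orderOf x = 2 →
      ∃ g : G, g * x * g⁻¹ ∈ Subgroup.centralizer ((P : Subgroup G) : Set G)) : False := by
  classical
  have : Fact (Nat.Prime 3) := ⟨by norm_num⟩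
  set C : Subgroup G := Subgroup.centralizer ((P : Subgroup G) : Set G) with hCdef
  set N : Subgroup G := Subgroup.normalizer ((P : Subgroup G) : Set G) with hNdef
  have hPab : IsMulCommutative P := IsCyclic.isMulCommutative
  have hCmem : ∀ z : G, z ∈ C ↔ ∀ y ∈ (P : Subgroup G), y * z = z * y :=
    fun z => Subgroup.mem_centralizer_iff
  have hPC : (P : Subgroup G) ≤ C := by
    intro y hy
    rw [hCmem]
    intro z hz
    have := hPab.is_comm.comm (⟨z, hz⟩ : ↥P) ⟨y, hy⟩
    exact congrArg Subtype.val this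
  have hidx : ((P : Subgroup G).subgroupOf C).index = 2 := eg_index_two P hPC hC
  have hsq : ∀ x ∈ C, x * x ∈ (P : Subgroup G) := by
    intro x hx
    have := Subgroup.sq_mem_of_index_two hidx (⟨x, hx⟩ : C)
    rw [Subgroup.mem_subgroupOf] at this
    simpa [pow_two] using this
  have hmul : ∀ x ∈ C, ∀ y ∈ C, x ∉ (P : Subgroup G) → y ∉ (P : Subgroup G) →
      x * y ∈ (P : Subgroup G) := by
    intro x hx y hy hxP hyP
    have := (Subgroup.mul_mem_iff_of_index_two hidx (a := (⟨x, hx⟩ : C)) (b := ⟨y, hy⟩)).mpr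
      ⟨fun h => absurd (Subgroup.mem_subgroupOf.mp h) hxP,
        fun h => absurd (Subgroup.mem_subgroupOf.mp h) hyP⟩
    exact Subgroup.mem_subgroupOf.mp this
  have hNC1 : ∀ g ∈ N, ∀ c ∈ C, g * c * g⁻¹ ∈ C := by
    intro g hg c hc
    rw [hCmem] at hc ⊢
    intro y hy
    have hy' : g⁻¹ * y * g ∈ (P : Subgroup G) := by
      have hg' : g⁻¹ ∈ N := N.inv_mem hg
      have := (Subgroup.mem_normalizer_iff.mp hg' y).mp hy
      simpa using this
    have h1 := hc _ hy'
    calc y * (g * c * g⁻¹) = g * ((g⁻¹ * y * g) * c) * g⁻¹ := by group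
      _ = g * (c * (g⁻¹ * y * g)) * g⁻¹ := by rw [h1]
      _ = g * c * g⁻¹ * y := by group
  have hNC : N ≤ Subgroup.normalizer ((C : Subgroup G) : Set G) := by
    intro g hg
    rw [Subgroup.mem_normalizer_iff]
    intro c
    constructor
    · exact fun hc => hNC1 g hg c hc
    · intro hc
      have := hNC1 g⁻¹ (N.inv_mem hg) _ hc
      simpa [mul_assoc] using this
  have hTIC : Cfsg.IsTISubset ((C : Subgroup G) : Set G) := by
    intro g hg x hx hgx
    by_contra hx1
    have hgN : g ∉ N := fun h => hg (hNC h)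
    by_cases hxx : x * x = 1
    · have hx2 : orderOf x = 2 := orderOf_eq_prime (by rw [pow_two]; exact hxx) hx1
      have hxP : x ∉ (P : Subgroup G) := fun h => hx1 (eg_sq_one P h hxx)
      have hy1 : g * x * g⁻¹ ≠ 1 := by
        intro h
        apply hx1
        have : x = g⁻¹ * (g * x * g⁻¹) * g := by group
        rw [this, h]; group
      have hyy : (g * x * g⁻¹) * (g * x * g⁻¹) = 1 := by
        have : (g * x * g⁻¹) * (g * x * g⁻¹) = g * (x * x) * g⁻¹ := by group
        rw [this, hxx]; group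
      have hyP : g * x * g⁻¹ ∉ (P : Subgroup G) := fun h => hy1 (eg_sq_one P h hyy)
      have hw : x * (g * x * g⁻¹) ∈ (P : Subgroup G) := hmul x hx _ hgx hxP hyP
      have hcomm : (x * (g * x * g⁻¹)) * x = x * (x * (g * x * g⁻¹)) := (hCmem x).mp hx _ hw
      have hww : (x * (g * x * g⁻¹)) * (x * (g * x * g⁻¹)) = 1 := by
        calc (x * (g * x * g⁻¹)) * (x * (g * x * g⁻¹))
            = ((x * (g * x * g⁻¹)) * x) * (g * x * g⁻¹) := by group
          _ = (x * (x * (g * x * g⁻¹))) * (g * x * g⁻¹) := by rw [hcomm]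
          _ = (x * x) * ((g * x * g⁻¹) * (g * x * g⁻¹)) := by group
          _ = 1 := by rw [hxx, hyy, one_mul]
      have hw1 : x * (g * x * g⁻¹) = 1 := eg_sq_one P hw hww
      have hgx' : g * x = x * g := by
        have h1 : g * x * g⁻¹ = x⁻¹ := by
          rw [eq_comm, inv_eq_iff_mul_eq_one]
          exact hw1
        have h2 : x⁻¹ = x := by
          rw [inv_eq_iff_mul_eq_one]; exact hxx
        rw [h2] at h1
        calc g * x = (g * x * g⁻¹) * g := by group
          _ = x * g := by rw [h1]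
      apply hgN
      apply hCt x hx hx2
      rw [Subgroup.mem_centralizer_iff]
      intro y hy
      rw [Set.mem_singleton_iff] at hy
      rw [hy]; exact hgx'.symm
    · apply hgN
      refine hTI g (x * x) (hsq x hx) hxx ?_
      have : g * (x * x) * g⁻¹ = (g * x * g⁻¹) * (g * x * g⁻¹) := by group
      rw [this]
      exact hsq _ hgx
  obtain ⟨m, hm⟩ := IsPGroup.iff_card.mp P.isPGroup'
  have hPcard : Nat.card P = 3 ^ m := hm
  have hdvdN : ∀ H : Subgroup G, H ≤ N → Nat.card H ∣ 4 * Nat.card P := by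
    intro H hH
    rw [← hN]; exact Subgroup.card_dvd_of_le hH
  have claim : ∀ H : Subgroup G, H ≠ ⊤ → ∀ t ∈ H, t ∈ C → orderOf t = 2 →
      Nat.card H ∣ 4 * Nat.card P := by
    intro H hH t htH htC ht2
    have htN := hCt t htC ht2
    have habl : ∀ K : Subgroup G, IsMulCommutative K → t ∈ K → K ≤ N := by
      intro K hK htK k hk
      apply htN
      rw [Subgroup.mem_centralizer_iff]
      intro y hy
      rw [Set.mem_singleton_iff] at hy
      subst hy
      have := hK.is_comm.comm (⟨y, htK⟩ : K) ⟨k, hk⟩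
      exact congrArg Subtype.val this
    obtain ⟨P1⟩ : Nonempty (Sylow 3 H) := inferInstance
    rcases hmin H hH P1 with ⟨P2, K, hKn, hKc⟩ | hP1n
    · have hcard : Nat.card K * Nat.card P2 = Nat.card H := hKc.card_mul_card
      have hKidx : K.index = Nat.card P2 := hKc.symm.index_eq_card
      have hP2idx : (P2 : Subgroup H).index = Nat.card K := hKc.index_eq_card
      have h3K : ¬ 3 ∣ Nat.card K := by
        rw [← hP2idx]; exact P2.not_dvd_index
      obtain ⟨a, ha⟩ := IsPGroup.iff_card.mp P2.isPGroup'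
      have htK : (⟨t, htH⟩ : H) ∈ K := by
        have := hKn
        have h1 := Subgroup.pow_index_mem K (⟨t, htH⟩ : H)
        rw [hKidx, ha] at h1
        have hodd : Odd (3 ^ a) := Odd.pow (by decide)
        obtain ⟨r, hr⟩ := hodd
        have ht2' : (⟨t, htH⟩ : H) ^ 2 = 1 := by
          apply Subtype.ext
          rw [Subgroup.coe_pow, Subgroup.coe_one, ← ht2]
          exact pow_orderOf_eq_one t
        rw [hr, pow_succ, pow_mul, ht2', one_pow, one_mul] at h1
        exact h1
      set K' : Subgroup G := K.map H.subtype with hK'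
      have hK'card : Nat.card K' = Nat.card K :=
        Subgroup.card_map_of_injective H.subtype_injective
      have htK' : t ∈ K' := ⟨⟨t, htH⟩, htK, rfl⟩
      have hK'ab : IsMulCommutative K' := hab K' (by rw [hK'card]; exact h3K)
      have hK'N : K' ≤ N := habl K' hK'ab htK'
      have h1 : Nat.card K' ∣ 4 * Nat.card P := hdvdN K' hK'N
      have hcop : Nat.Coprime (Nat.card K') (Nat.card P) := by
        rw [hPcard]
        apply Nat.Coprime.pow_right
        rw [Nat.coprime_comm, Nat.Prime.coprime_iff_not_dvd (by norm_num)]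
        rw [hK'card]; exact h3K
      have h2 : Nat.card K' ∣ 4 := hcop.dvd_of_dvd_mul_right h1
      have h3 : Nat.card P2 ∣ Nat.card P := by
        rw [ha, P.card_eq_multiplicity]
        apply pow_dvd_pow
        have hd : 3 ^ a ∣ Nat.card G := by
          rw [← ha]
          have e1 : Nat.card P2 ∣ Nat.card H := ⟨Nat.card K, by rw [← hcard, mul_comm]⟩
          exact e1.trans (Subgroup.card_subgroup_dvd_card H)
        exact (Nat.Prime.pow_dvd_iff_le_factorization (by norm_num) Nat.card_pos.ne').mp hd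
      rw [← hcard, ← hK'card]
      exact mul_dvd_mul h2 h3
    · by_cases hP1 : (P1 : Subgroup H) = ⊥
      · have h3H : ¬ 3 ∣ Nat.card H := by
          have := P1.not_dvd_index
          rw [hP1, Subgroup.index_bot] at this
          exact this
        exact hdvdN H (habl H (hab H h3H) htH)
      · obtain ⟨u0, hu0, hu01⟩ : ∃ u0 : H, u0 ∈ (P1 : Subgroup H) ∧ u0 ≠ 1 := by
          by_contra hcon
          push Not at hcon
          exact hP1 ((Subgroup.eq_bot_iff_forall _).mpr hcon)
        have hP1p : IsPGroup 3 ((P1 : Subgroup H).map H.subtype) := P1.isPGroup'.map H.subtype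
        obtain ⟨Q, hQ⟩ := hP1p.exists_le_sylow
        obtain ⟨g2, hg2⟩ := MulAction.exists_smul_eq G P Q
        have hQP : ∀ x ∈ (Q : Subgroup G), g2⁻¹ * x * g2 ∈ (P : Subgroup G) := by
          intro x hx
          rw [← hg2, Sylow.coe_subgroup_smul,
            Subgroup.mem_pointwise_smul_iff_inv_smul_mem] at hx
          simpa [MulAut.smul_def, MulAut.conj_inv_apply] using hx
        have hle : H.map (MulAut.conj g2⁻¹).toMonoidHom ≤ N := by
          rintro _ ⟨h, hh, rfl⟩
          have hu : (u0 : G) ∈ (Q : Subgroup G) := hQ ⟨u0, hu0, rfl⟩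
          have hconj : h * (u0 : G) * h⁻¹ ∈ (Q : Subgroup G) := by
            apply hQ
            exact ⟨⟨h, hh⟩ * u0 * ⟨h, hh⟩⁻¹, hP1n.conj_mem u0 hu0 ⟨h, hh⟩, rfl⟩
          have h1 := hQP _ hu
          have h2 := hQP _ hconj
          have hne : g2⁻¹ * (u0 : G) * g2 ≠ 1 := by
            intro h
            apply hu01
            apply Subtype.ext
            have : (u0 : G) = g2 * (g2⁻¹ * (u0 : G) * g2) * g2⁻¹ := by group
            rw [this, h]; simp
          refine hTI _ _ h1 hne ?_
          have : (MulAut.conj g2⁻¹).toMonoidHom h * (g2⁻¹ * (u0 : G) * g2) *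
              ((MulAut.conj g2⁻¹).toMonoidHom h)⁻¹ = g2⁻¹ * (h * (u0 : G) * h⁻¹) * g2 := by
            simp only [MulEquiv.coe_toMonoidHom, MulAut.conj_apply]
            group
          rw [this]; exact h2
        have hc : Nat.card (H.map (MulAut.conj g2⁻¹).toMonoidHom) = Nat.card H :=
          Subgroup.card_map_of_injective (MulAut.conj g2⁻¹).injective
        rw [← hc]
        exact hdvdN _ hle
  have heven : ∀ H : Subgroup G, H ≠ ⊤ → 2 ∣ Nat.card H → Nat.card H ∣ 4 * Nat.card P := by
    intro H hH h2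
    obtain ⟨s, hs⟩ := exists_prime_orderOf_dvd_card' 2 h2
    have hs' : orderOf (s : G) = 2 := by rw [Subgroup.orderOf_coe]; exact hs
    obtain ⟨g, hg⟩ := hinv (s : G) hs'
    have hc : Nat.card (H.map (MulAut.conj g).toMonoidHom) = Nat.card H :=
      Subgroup.card_map_of_injective (MulAut.conj g).injective
    have hH' : H.map (MulAut.conj g).toMonoidHom ≠ ⊤ := by
      intro htop
      apply hH
      rw [← Subgroup.card_eq_iff_eq_top, ← hc, htop, Subgroup.card_top]
    have ht2 : orderOf (g * (s : G) * g⁻¹) = 2 := by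
      have := orderOf_injective (MulAut.conj g).toMonoidHom (MulAut.conj g).injective (s : G)
      rw [← hs']; exact this
    rw [← hc]
    exact claim _ hH' (g * (s : G) * g⁻¹) ⟨(s : G), s.2, rfl⟩ hg ht2
  exact Cfsg.Agent.S4018.result P hPab hN hC hTIC heven inferInstance

end Cfsg.Agent.S4016P
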