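import Mathlib
import Cfsg.Agent.Helper18.S4016E

/-! Bridge piece for S4016 (team effort): from the output of the counting step
(`|L| = 4`, `|L ⊓ C(P)| = 2`, conjugates of `L ⊓ C(P)` cover `L`) to the endgame. -/

set_option autoImplicit false
open Cfsg

namespace Cfsg.Agent.S4016P

/-- If every element of `K` is a product `a * b` with `a ∈ A ≤ K`, `b ∈ B ≤ K` and `A ∩ B = 1`, then
`|K| = |A| |B|`. -/
theorem eg_card_dec {G : Type*} [Group G] [Finite G] (A B K : Subgroup G) (hA : A ≤ K)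
    (hB : B ≤ K) (hAB : ∀ x ∈ A, x ∈ B → x = 1) (hdec : ∀ k ∈ K, ∃ a ∈ A, ∃ b ∈ B, k = a * b) :
    Nat.card K = Nat.card A * Nat.card B := by
  rw [← Nat.card_prod]
  symm
  apply Nat.card_congr
  refine Equiv.ofBijective (fun ab : A × B =>
    (⟨(ab.1 : G) * (ab.2 : G), K.mul_mem (hA ab.1.2) (hB ab.2.2)⟩ : K)) ⟨?_, ?_⟩
  · rintro ⟨a, b⟩ ⟨a', b'⟩ h
    have h1 : (a : G) * (b : G) = (a' : G) * (b' : G) := congrArg Subtype.val h
    have h2 : (a' : G)⁻¹ * (a : G) = (b' : G) * (b : G)⁻¹ := by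
      have : (a' : G)⁻¹ * ((a : G) * (b : G)) * (b : G)⁻¹ =
          (a' : G)⁻¹ * ((a' : G) * (b' : G)) * (b : G)⁻¹ := by rw [h1]
      simpa [mul_assoc] using this
    have h3 : (a' : G)⁻¹ * (a : G) = 1 :=
      hAB _ (A.mul_mem (A.inv_mem a'.2) a.2) (by rw [h2]; exact B.mul_mem b'.2 (B.inv_mem b.2))
    have h4 : (a : G) = a' := (inv_mul_eq_one.mp h3).symm
    have h5 : (b : G) = b' := by
      rw [h4] at h1
      exact mul_left_cancel h1
    exact Prod.ext (Subtype.ext h4) (Subtype.ext h5)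
  · rintro ⟨k, hk⟩
    obtain ⟨a, ha, b, hb, rfl⟩ := hdec k hk
    exact ⟨(⟨a, ha⟩, ⟨b, hb⟩), rfl⟩

/-- BRIDGE (core form) for S4016: `p = 3`, `N(P) = P L` with `|L| = 4`, `|L ⊓ C(P)| = 2`,
`C(x) ≤ N(P)` for `1 ≠ x ∈ L ⊓ C(P)`, every nonidentity element of `L` conjugate into
`L ⊓ C(P)`, every involution conjugate into `L`: contradiction. -/
theorem bridge_core {G : Type*} [Group G] [Finite G] [IsSimpleGroup G] (P : Sylow 3 G)
    (hcyc : IsCyclic P)
    (hab : ∀ H : Subgroup G, ¬ 3 ∣ Nat.card H → IsMulCommutative H)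
    (hmin : ∀ H : Subgroup G, H ≠ ⊤ → ∀ P1 : Sylow 3 H,
      Cfsg.HasNormalPComplement 3 H ∨ (P1 : Subgroup H).Normal)
    (hTI : ∀ g u : G, u ∈ (P : Subgroup G) → u ≠ 1 → g * u * g⁻¹ ∈ (P : Subgroup G) →
      g ∈ Subgroup.normalizer ((P : Subgroup G) : Set G))
    (L : Subgroup G) (hLN : L ≤ Subgroup.normalizer ((P : Subgroup G) : Set G))
    (hdec : ∀ n ∈ Subgroup.normalizer ((P : Subgroup G) : Set G),
      ∃ u ∈ (P : Subgroup G), ∃ l ∈ L, n = u * l)
    (hL4 : Nat.card L = 4)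
    (hL0 : Nat.card ↥(L ⊓ Subgroup.centralizer ((P : Subgroup G) : Set G)) = 2)
    (hcent : ∀ x : G, x ∈ L → x ∈ Subgroup.centralizer ((P : Subgroup G) : Set G) → x ≠ 1 →
      Subgroup.centralizer ({x} : Set G) ≤ Subgroup.normalizer ((P : Subgroup G) : Set G))
    (hfus : ∀ x ∈ L, x ≠ 1 →
      ∃ g : G, g * x * g⁻¹ ∈ L ⊓ Subgroup.centralizer ((P : Subgroup G) : Set G))
    (hinvL : ∀ x : G, orderOf x = 2 → ∃ g : G, g * x * g⁻¹ ∈ L) : False := by
  classical
  have : Fact (Nat.Prime 3) := ⟨by norm_num⟩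
  set C : Subgroup G := Subgroup.centralizer ((P : Subgroup G) : Set G) with hCdef
  set N : Subgroup G := Subgroup.normalizer ((P : Subgroup G) : Set G) with hNdef
  have hPab : IsMulCommutative P := IsCyclic.isMulCommutative
  have hPC : (P : Subgroup G) ≤ C := by
    intro y hy
    rw [hCdef, Subgroup.mem_centralizer_iff]
    intro z hz
    have := hPab.is_comm.comm (⟨z, hz⟩ : ↥P) ⟨y, hy⟩
    exact congrArg Subtype.val this
  have hPN : (P : Subgroup G) ≤ N := Subgroup.le_normalizer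
  have hCN : C ≤ N := Subgroup.centralizer_le_normalizer _
  have hPL : ∀ x ∈ (P : Subgroup G), x ∈ L → x = 1 := by
    intro x hxP hxL
    obtain ⟨m, hm⟩ := IsPGroup.iff_card.mp P.isPGroup'
    have h1 : orderOf x ∣ 3 ^ m := by rw [← hm]; exact Subgroup.orderOf_dvd_natCard _ hxP
    have h2 : orderOf x ∣ 4 := by rw [← hL4]; exact Subgroup.orderOf_dvd_natCard _ hxL
    have h3 : orderOf x ∣ Nat.gcd 4 (3 ^ m) := Nat.dvd_gcd h2 h1
    have h4 : Nat.gcd 4 (3 ^ m) = 1 := Nat.Coprime.pow_right m (by norm_num)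
    rw [h4, Nat.dvd_one, orderOf_eq_one_iff] at h3
    exact h3
  have hN : Nat.card N = 4 * Nat.card P := by
    rw [eg_card_dec (P : Subgroup G) L N hPN hLN hPL hdec, hL4, mul_comm]
  have hlC : ∀ u ∈ (P : Subgroup G), ∀ l : G, u * l ∈ C → l ∈ C := by
    intro u hu l hc
    have : l = u⁻¹ * (u * l) := by group
    rw [this]; exact C.mul_mem (C.inv_mem (hPC hu)) hc
  have hC : Nat.card C = 2 * Nat.card P := by
    have hdecC : ∀ c ∈ C, ∃ u ∈ (P : Subgroup G), ∃ l ∈ L ⊓ C, c = u * l := by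
      intro c hc
      obtain ⟨u, hu, l, hl, rfl⟩ := hdec c (hCN hc)
      exact ⟨u, hu, l, ⟨hl, hlC u hu l hc⟩, rfl⟩
    rw [eg_card_dec (P : Subgroup G) (L ⊓ C) C hPC inf_le_right
      (fun x hx hx' => hPL x hx hx'.1) hdecC, hL0, mul_comm]
  have hCt : ∀ t : G, t ∈ C → orderOf t = 2 → Subgroup.centralizer ({t} : Set G) ≤ N := by
    intro t htC ht2
    have ht1 : t ≠ 1 := by
      intro h; rw [h, orderOf_one] at ht2; omega
    obtain ⟨u, hu, l, hl, rfl⟩ := hdec t (hCN htC)
    have hlC' : l ∈ C := hlC u hu l htC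
    have hul : u * l = l * u := (Subgroup.mem_centralizer_iff.mp hlC') u hu
    have hsq : (u * l) * (u * l) = 1 := by
      rw [← pow_two, ← ht2]; exact pow_orderOf_eq_one _
    have h1 : (u * u) * (l * l) = 1 := by
      calc (u * u) * (l * l) = u * (u * l) * l := by group
        _ = u * (l * u) * l := by rw [hul]
        _ = (u * l) * (u * l) := by group
        _ = 1 := hsq
    have h2 : u * u = (l * l)⁻¹ := eq_inv_of_mul_eq_one_left h1
    have h3 : u * u = 1 :=
      hPL _ ((P : Subgroup G).mul_mem hu hu) (by rw [h2]; exact L.inv_mem (L.mul_mem hl hl))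
    have hu1 : u = 1 := eg_sq_one P hu h3
    have htl : u * l = l := by rw [hu1, one_mul]
    rw [htl] at ht1 ⊢
    exact hcent l hl hlC' ht1
  have hinv : ∀ x : G, orderOf x = 2 → ∃ g : G, g * x * g⁻¹ ∈ C := by
    intro x hx
    obtain ⟨g, hg⟩ := hinvL x hx
    have hne : g * x * g⁻¹ ≠ 1 := by
      intro h
      have hx1 : x = 1 := by
        have e : x = g⁻¹ * (g * x * g⁻¹) * g := by group
        rw [e, h]; group
      rw [hx1, orderOf_one] at hx; omega
    obtain ⟨g', hg'⟩ := hfus _ hg hne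
    refine ⟨g' * g, ?_⟩
    have e : g' * g * x * (g' * g)⁻¹ = g' * (g * x * g⁻¹) * g'⁻¹ := by group
    rw [e]; exact hg'.2
  exact endgame P hcyc hab hmin hN hC hTI hCt hinv

/-- BRIDGE for S4016 in the shape produced by the counting step: `P1` (with at least `3`
elements) normalizes `L`, its nonidentity elements move `L ⊓ C(P)` off itself, and a Sylow
`2`-subgroup of `G` lies in `L`. -/
theorem bridge {G : Type*} [Group G] [Finite G] [IsSimpleGroup G] (P : Sylow 3 G)
    (hcyc : IsCyclic P)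
    (hab : ∀ H : Subgroup G, ¬ 3 ∣ Nat.card H → IsMulCommutative H)
    (hmin : ∀ H : Subgroup G, H ≠ ⊤ → ∀ P1 : Sylow 3 H,
      Cfsg.HasNormalPComplement 3 H ∨ (P1 : Subgroup H).Normal)
    (hTI : ∀ g u : G, u ∈ (P : Subgroup G) → u ≠ 1 → g * u * g⁻¹ ∈ (P : Subgroup G) →
      g ∈ Subgroup.normalizer ((P : Subgroup G) : Set G))
    (L : Subgroup G) (hLN : L ≤ Subgroup.normalizer ((P : Subgroup G) : Set G))
    (hdec : ∀ n ∈ Subgroup.normalizer ((P : Subgroup G) : Set G),
      ∃ u ∈ (P : Subgroup G), ∃ l ∈ L, n = u * l)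
    (hL4 : Nat.card L = 4)
    (hL0 : Nat.card ↥(L ⊓ Subgroup.centralizer ((P : Subgroup G) : Set G)) = 2)
    (hcent : ∀ x : G, x ∈ L → x ∈ Subgroup.centralizer ((P : Subgroup G) : Set G) → x ≠ 1 →
      Subgroup.centralizer ({x} : Set G) ≤ Subgroup.normalizer ((P : Subgroup G) : Set G))
    (P1 : Subgroup G) (hP1 : 3 ≤ Nat.card P1)
    (hnorm : ∀ u ∈ P1, ∀ x ∈ L, u * x * u⁻¹ ∈ L)
    (hTI1 : ∀ u ∈ P1, u ≠ 1 →
      ∀ x ∈ L ⊓ Subgroup.centralizer ((P : Subgroup G) : Set G),
        u * x * u⁻¹ ∈ L ⊓ Subgroup.centralizer ((P : Subgroup G) : Set G) → x = 1)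
    (Q : Sylow 2 G) (hQL : (Q : Subgroup G) ≤ L) : False := by
  classical
  have : Fact (Nat.Prime 2) := ⟨by norm_num⟩
  set L0 : Subgroup G := L ⊓ Subgroup.centralizer ((P : Subgroup G) : Set G) with hL0def
  obtain ⟨t, htL0, ht1⟩ : ∃ t ∈ L0, t ≠ 1 := by
    by_contra hcon
    push Not at hcon
    have hbot : L0 = ⊥ := (Subgroup.eq_bot_iff_forall _).mpr hcon
    rw [hbot, Subgroup.card_bot] at hL0
    omega
  let f : Option P1 → L := fun o =>
    match o with
    | none => 1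
    | some u => ⟨(u : G) * t * (u : G)⁻¹, hnorm u u.2 t htL0.1⟩
  have hfne : ∀ u : P1, (u : G) * t * (u : G)⁻¹ ≠ 1 := by
    intro u h
    apply ht1
    have e : t = (u : G)⁻¹ * ((u : G) * t * (u : G)⁻¹) * (u : G) := by group
    rw [e, h]; group
  have hf : Function.Injective f := by
    intro a b hab'
    cases a with
    | none =>
      cases b with
      | none => rfl
      | some v =>
        exfalso
        have h1 : (1 : G) = (v : G) * t * (v : G)⁻¹ := congrArg Subtype.val hab'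
        exact hfne v h1.symm
    | some u =>
      cases b with
      | none =>
        exfalso
        have h1 : (u : G) * t * (u : G)⁻¹ = 1 := congrArg Subtype.val hab'
        exact hfne u h1
      | some v =>
        have h1 : (u : G) * t * (u : G)⁻¹ = (v : G) * t * (v : G)⁻¹ := congrArg Subtype.val hab'
        by_contra hne
        have hw : ((v : G)⁻¹ * (u : G)) ≠ 1 := by
          intro h
          apply hne
          have h2 : (v : G) = u := inv_mul_eq_one.mp h
          rw [Subtype.ext h2]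
        apply ht1
        apply hTI1 _ (P1.mul_mem (P1.inv_mem v.2) u.2) hw t htL0
        have e : (v : G)⁻¹ * (u : G) * t * ((v : G)⁻¹ * (u : G))⁻¹ =
            (v : G)⁻¹ * ((u : G) * t * (u : G)⁻¹) * (v : G) := by group
        rw [e, h1]
        have e2 : (v : G)⁻¹ * ((v : G) * t * (v : G)⁻¹) * (v : G) = t := by group
        rw [e2]; exact htL0
  have hcard : Nat.card (Option P1) = Nat.card L := by
    have h1 : Nat.card (Option P1) ≤ Nat.card L := Nat.card_le_card_of_injective f hf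
    have h2 : Nat.card (Option P1) = Nat.card P1 + 1 := Finite.card_option
    omega
  have hsurj : Function.Surjective f :=
    ((Nat.bijective_iff_injective_and_card f).mpr ⟨hf, hcard⟩).2
  apply bridge_core P hcyc hab hmin hTI L hLN hdec hL4 hL0 hcent
  · intro x hx hx1
    obtain ⟨o, ho⟩ := hsurj ⟨x, hx⟩
    cases o with
    | none =>
      exfalso
      apply hx1
      have h1 : (1 : G) = x := congrArg Subtype.val ho
      exact h1.symm
    | some u =>
      refine ⟨(u : G)⁻¹, ?_⟩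
      have h1 : (u : G) * t * (u : G)⁻¹ = x := congrArg Subtype.val ho
      rw [← h1]
      have e : (u : G)⁻¹ * ((u : G) * t * (u : G)⁻¹) * ((u : G)⁻¹)⁻¹ = t := by group
      rw [e]; exact htL0
  · intro x hx
    have hp : IsPGroup 2 (Subgroup.zpowers x) := by
      apply IsPGroup.of_card (n := 1)
      rw [Nat.card_zpowers, hx, pow_one]
    obtain ⟨Q', hQ'⟩ := hp.exists_le_sylow
    obtain ⟨g, hg⟩ := MulAction.exists_smul_eq G Q' Q
    refine ⟨g, hQL ?_⟩
    rw [← hg, Sylow.coe_subgroup_smul, Subgroup.mem_pointwise_smul_iff_inv_smul_mem]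
    have e : (MulAut.conj g)⁻¹ • (g * x * g⁻¹) = x := by
      rw [MulAut.smul_def, MulAut.conj_inv_apply]; group
    rw [e]
    exact hQ' (Subgroup.mem_zpowers x)

end Cfsg.Agent.S4016P
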