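import Mathlib
import Cfsg.Agent.Helper18.S4016F
import Cfsg.Agent.Helper3.S4016TI
import Cfsg.Agent.Lead.S4016D

/-! Final wiring for S4016 (team effort), case `p = 3`: from the output of the structure step
and the counting step straight to `False` (uses `ti_of_min` of helper3, `pprime_cent_central` and
`cent_le_norm` of lead, and the bridge/endgame of helper18). -/

set_option autoImplicit false
open Cfsg

namespace Cfsg.Agent.S4016P

/-- FINAL step of the simple case of S4016 once the counting gave `p = 3`, `|L| = 4`,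
`|L ⊓ C(P)| = 2`: here `N(P) = P ⊔ L`, and `P1` (at least `3` elements) normalizes `L` while its
nonidentity elements move `L ⊓ C(P)` off itself. No further input is needed. -/
theorem h18_final3 {G : Type*} [Group G] [Finite G] [IsSimpleGroup G]
    (hna : ∃ a b : G, a * b ≠ b * a) (P : Sylow 3 G) (hcyc : IsCyclic P)
    (hab : ∀ H : Subgroup G, ¬ 3 ∣ Nat.card H → IsMulCommutative H)
    (hmin : ∀ H : Subgroup G, H ≠ ⊤ → ∀ P1 : Sylow 3 H,
      Cfsg.HasNormalPComplement 3 H ∨ (P1 : Subgroup H).Normal)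
    (L : Subgroup G)
    (hsup : (P : Subgroup G) ⊔ L = Subgroup.normalizer ((P : Subgroup G) : Set G))
    (hL4 : Nat.card L = 4)
    (hL0 : Nat.card ↥(L ⊓ Subgroup.centralizer ((P : Subgroup G) : Set G)) = 2)
    (P1 : Subgroup G) (hP1 : 3 ≤ Nat.card P1)
    (hnorm : ∀ u ∈ P1, ∀ x ∈ L, u * x * u⁻¹ ∈ L)
    (hTI1 : ∀ u ∈ P1, u ≠ 1 →
      ∀ x ∈ L ⊓ Subgroup.centralizer ((P : Subgroup G) : Set G),
        u * x * u⁻¹ ∈ L ⊓ Subgroup.centralizer ((P : Subgroup G) : Set G) → x = 1) : False := by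
  classical
  have h3 : Fact (Nat.Prime 3) := ⟨by norm_num⟩
  have h2 : Fact (Nat.Prime 2) := ⟨by norm_num⟩
  have hLN : L ≤ Subgroup.normalizer ((P : Subgroup G) : Set G) := by
    rw [← hsup]; exact le_sup_right
  have hNC : ¬ Subgroup.normalizer ((P : Subgroup G) : Set G) ≤
      Subgroup.centralizer ((P : Subgroup G) : Set G) := by
    intro h
    have hLC : L ⊓ Subgroup.centralizer ((P : Subgroup G) : Set G) = L :=
      inf_eq_left.mpr (hLN.trans h)
    rw [hLC] at hL0
    omega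
  have hTI := (ti_of_min hna P hcyc hmin hNC).2
  have hdec : ∀ n ∈ Subgroup.normalizer ((P : Subgroup G) : Set G),
      ∃ u ∈ (P : Subgroup G), ∃ l ∈ L, n = u * l := by
    intro n hn
    rw [← hsup] at hn
    have hset := Subgroup.coe_mul_of_right_le_normalizer_left (P : Subgroup G) L hLN
    have hn' : n ∈ (((P : Subgroup G) ⊔ L : Subgroup G) : Set G) := hn
    rw [hset] at hn'
    obtain ⟨u, hu, l, hl, rfl⟩ := hn'
    exact ⟨u, hu, l, hl, rfl⟩
  have hcent : ∀ x : G, x ∈ L → x ∈ Subgroup.centralizer ((P : Subgroup G) : Set G) → x ≠ 1 →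
      Subgroup.centralizer ({x} : Set G) ≤ Subgroup.normalizer ((P : Subgroup G) : Set G) := by
    intro x hxL hxC hx1
    have hxo : (orderOf x).Coprime 3 := by
      have h1 : orderOf x ∣ 4 := by rw [← hL4]; exact Subgroup.orderOf_dvd_natCard _ hxL
      exact Nat.Coprime.coprime_dvd_left h1 (by norm_num)
    have hxN := pprime_cent_central P hcyc hab hxC hxo
    exact (cent_le_norm hna P hcyc hmin hNC hx1 hxN).le
  obtain ⟨t, htL0, ht1⟩ : ∃ t ∈ L ⊓ Subgroup.centralizer ((P : Subgroup G) : Set G), t ≠ 1 := by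
    by_contra hcon
    push Not at hcon
    have hbot : L ⊓ Subgroup.centralizer ((P : Subgroup G) : Set G) = ⊥ :=
      (Subgroup.eq_bot_iff_forall _).mpr hcon
    rw [hbot, Subgroup.card_bot] at hL0
    omega
  have hLp : IsPGroup 2 L := IsPGroup.of_card (n := 2) (by rw [hL4]; norm_num)
  obtain ⟨Q, hQ⟩ := hLp.exists_le_sylow
  obtain ⟨k, hk⟩ := IsPGroup.iff_card.mp Q.isPGroup'
  have h3Q : ¬ 3 ∣ Nat.card (Q : Subgroup G) := by
    rw [hk]
    intro h
    have h' := Nat.Prime.dvd_of_dvd_pow Nat.prime_three h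
    omega
  have hQab := hab (Q : Subgroup G) h3Q
  have hQN : (Q : Subgroup G) ≤ Subgroup.normalizer ((P : Subgroup G) : Set G) := by
    intro y hy
    apply hcent t htL0.1 htL0.2 ht1
    rw [Subgroup.mem_centralizer_iff]
    intro z hz
    rw [Set.mem_singleton_iff] at hz
    subst hz
    have := hQab.is_comm.comm (⟨z, hQ htL0.1⟩ : (Q : Subgroup G)) ⟨y, hy⟩
    exact congrArg Subtype.val this
  obtain ⟨m, hm⟩ := IsPGroup.iff_card.mp P.isPGroup'
  have hPL : ∀ x ∈ (P : Subgroup G), x ∈ L → x = 1 := by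
    intro x hxP hxL
    have h1 : orderOf x ∣ 3 ^ m := by rw [← hm]; exact Subgroup.orderOf_dvd_natCard _ hxP
    have h2' : orderOf x ∣ 4 := by rw [← hL4]; exact Subgroup.orderOf_dvd_natCard _ hxL
    have h3' : orderOf x ∣ Nat.gcd 4 (3 ^ m) := Nat.dvd_gcd h2' h1
    have h4 : Nat.gcd 4 (3 ^ m) = 1 := Nat.Coprime.pow_right m (by norm_num)
    rw [h4, Nat.dvd_one, orderOf_eq_one_iff] at h3'
    exact h3'
  have hNcard : Nat.card (Subgroup.normalizer ((P : Subgroup G) : Set G)) = 4 * Nat.card P := by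
    rw [eg_card_dec (P : Subgroup G) L _ Subgroup.le_normalizer hLN hPL hdec, hL4, mul_comm]
  have hQdvd : Nat.card (Q : Subgroup G) ∣ 4 * Nat.card P := by
    rw [← hNcard]; exact Subgroup.card_dvd_of_le hQN
  have hQ4 : Nat.card (Q : Subgroup G) ∣ 4 := by
    have hcop : Nat.Coprime (Nat.card (Q : Subgroup G)) (Nat.card P) := by
      rw [hk, hm]; exact Nat.Coprime.pow _ _ (by norm_num)
    exact hcop.dvd_of_dvd_mul_right hQdvd
  have hQL : (Q : Subgroup G) ≤ L := by
    have hle : Nat.card (Q : Subgroup G) ≤ Nat.card L := by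
      rw [hL4]; exact Nat.le_of_dvd (by norm_num) hQ4
    have hLQ : L = (Q : Subgroup G) := Subgroup.eq_of_le_of_card_ge hQ hle
    rw [← hLQ]
  exact bridge P hcyc hab hmin hTI L hLN hdec hL4 hL0 hcent P1 hP1 hnorm hTI1 Q hQL

end Cfsg.Agent.S4016P
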