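import Mathlib
import Cfsg.Agent.Helper18.S4016G
import Cfsg.Agent.Helper5.S4016K
import Cfsg.Agent.Helper2.S4016G
import Cfsg.Agent.Helper12.S4016B
import Cfsg.Agent.Helper12.S4016C
import Cfsg.Agent.Helper3.S4016G

/-! Final wiring for S4016 (team effort), general `p`: from the structure step (complement `L` of
`P` in `N(P)` and the `p`-subgroup `P1` normalizing `L`) straight to `False`. -/

set_option autoImplicit false
open Cfsg

namespace Cfsg.Agent.S4016P

/-- Everything after the structure step, in the shape of the inputs of the counting lemma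
(`h5_count_of_p1` of helper5) plus `P ⊔ L = N(P)`. -/
theorem h18_final_count {G : Type*} [Group G] [Finite G] {p : ℕ} [Fact p.Prime]
    [IsSimpleGroup G] (hna : ∃ a b : G, a * b ≠ b * a) (P : Sylow p G) (hcyc : IsCyclic P)
    (hab : ∀ H : Subgroup G, ¬ p ∣ Nat.card H → IsMulCommutative H)
    (hmin : ∀ H : Subgroup G, H ≠ ⊤ → ∀ P1 : Sylow p H,
      Cfsg.HasNormalPComplement p H ∨ (P1 : Subgroup H).Normal)
    (L P1 : Subgroup G)
    (hLab : ∀ a ∈ L, ∀ b ∈ L, a * b = b * a)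
    (hsup : (P : Subgroup G) ⊔ L = Subgroup.normalizer ((P : Subgroup G) : Set G))
    (hne : ¬ L ≤ Subgroup.centralizer ((P : Subgroup G) : Set G))
    (hdvd : Nat.card L ∣
      (p - 1) * Nat.card ↥(L ⊓ Subgroup.centralizer ((P : Subgroup G) : Set G)))
    (hmod : Nat.card L % p = 1)
    (hP1 : p ≤ Nat.card P1)
    (hnorm : ∀ u ∈ P1, ∀ x ∈ L, u * x * u⁻¹ ∈ L)
    (hTI1 : ∀ u ∈ P1, u ≠ 1 → ∀ x ∈ L ⊓ Subgroup.centralizer ((P : Subgroup G) : Set G),
      u * x * u⁻¹ ∈ L ⊓ Subgroup.centralizer ((P : Subgroup G) : Set G) → x = 1) : False := by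
  have hLN : L ≤ Subgroup.normalizer ((P : Subgroup G) : Set G) := by
    rw [← hsup]; exact le_sup_right
  obtain ⟨h3, hL4, hL0⟩ := h5_count_of_p1 P hcyc L P1 hLab hLN hne hdvd hmod hP1 hnorm hTI1
  subst h3
  exact h18_final3 hna P hcyc hab hmin L hsup hL4 hL0 P1 hP1 hnorm hTI1

/-- Everything after the structure step, from the bare structure data: an abelian complement
`L` of `P` in `N(P)` and a nontrivial `p`-subgroup `P1` normalizing `L` whose nonidentity
elements move `L ⊓ C(P)` off itself. -/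
theorem h18_final_mid {G : Type*} [Group G] [Finite G] {p : ℕ} [Fact p.Prime]
    [IsSimpleGroup G] (hna : ∃ a b : G, a * b ≠ b * a) (P : Sylow p G) (hcyc : IsCyclic P)
    (hP : (P : Subgroup G) ≠ ⊥)
    (hab : ∀ H : Subgroup G, ¬ p ∣ Nat.card H → IsMulCommutative H)
    (hmin : ∀ H : Subgroup G, H ≠ ⊤ → ∀ P1 : Sylow p H,
      Cfsg.HasNormalPComplement p H ∨ (P1 : Subgroup H).Normal)
    (hT : ∀ (q : ℕ) [Fact q.Prime] (Q : Sylow q G), IsMulCommutative Q → ∀ y ∈ Q,
      (∀ n ∈ Subgroup.normalizer ((Q : Subgroup G) : Set G), n * y = y * n) → y = 1)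
    (L P1 : Subgroup G)
    (hLab : ∀ a ∈ L, ∀ b ∈ L, a * b = b * a)
    (hPL : (P : Subgroup G) ⊓ L = ⊥)
    (hsup : (P : Subgroup G) ⊔ L = Subgroup.normalizer ((P : Subgroup G) : Set G))
    (hP1p : IsPGroup p P1) (hP1ne : P1 ≠ ⊥)
    (hnorm : ∀ u ∈ P1, ∀ x ∈ L, u * x * u⁻¹ ∈ L)
    (hTI1 : ∀ u ∈ P1, u ≠ 1 → ∀ x ∈ L ⊓ Subgroup.centralizer ((P : Subgroup G) : Set G),
      u * x * u⁻¹ ∈ L ⊓ Subgroup.centralizer ((P : Subgroup G) : Set G) → x = 1) : False := by
  classical
  have hp : p.Prime := Fact.out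
  have hNC := burnside_nc hna P hcyc hP
  have hPab : IsMulCommutative P := IsCyclic.isMulCommutative
  have hPC : (P : Subgroup G) ≤ Subgroup.centralizer ((P : Subgroup G) : Set G) := by
    intro y hy
    rw [Subgroup.mem_centralizer_iff]
    intro z hz
    have := hPab.is_comm.comm (⟨z, hz⟩ : ↥P) ⟨y, hy⟩
    exact congrArg Subtype.val this
  have hne : ¬ L ≤ Subgroup.centralizer ((P : Subgroup G) : Set G) := by
    intro h
    apply hNC
    rw [← hsup]
    exact sup_le hPC h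
  have hQ : ∀ (q : ℕ) [Fact q.Prime], q ≠ p → ∀ Q : Sylow q G, Nat.card Q % p = 1 :=
    fun q _ hq Q => sylow_q_mod hna hab hmin hT hq Q
  have hmod : Nat.card L % p = 1 := h2_compl_card_mod P hQ L hPL hsup
  have hdvd : Nat.card L ∣
      (p - 1) * Nat.card ↥(L ⊓ Subgroup.centralizer ((P : Subgroup G) : Set G)) := by
    have h1 := card_norm_dvd P hcyc
    rw [h3_card_norm P L hPL hsup, h3_card_cent P L hPL hsup hcyc, ← mul_assoc] at h1
    exact Nat.dvd_of_mul_dvd_mul_right Nat.card_pos h1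
  have hP1 : p ≤ Nat.card P1 := by
    obtain ⟨k, hk⟩ := IsPGroup.iff_card.mp hP1p
    have hk0 : k ≠ 0 := by
      intro h0
      apply hP1ne
      rw [h0, pow_zero] at hk
      exact (Subgroup.card_eq_one).mp hk
    rw [hk]
    exact Nat.le_self_pow hk0 p
  exact h18_final_count hna P hcyc hab hmin L P1 hLab hsup hne hdvd hmod hP1 hnorm hTI1

end Cfsg.Agent.S4016P
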