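import Mathlib
import Cfsg.Agent.Helper18.S4016H
import Cfsg.Agent.Helper2.S4016H
import Cfsg.Agent.Helper23.S4016F

/-! The simple case of S4016 (team effort), assembled from the landed pieces:
helper2 (complement, glue), helper3 (Burnside, TI), helper5 (counting), helper12 (Sylow `q` mod `p`,
`N(Q)` structure), helper23 (`exists_p1`), lead (centralizers), helper17 (S4018), helper18 (endgame,
bridge, final wiring). -/

set_option autoImplicit false
open Cfsg

namespace Cfsg.Agent.S4016P

/-- SIMPLE CASE of S4016: a nonabelian finite simple group with cyclic Sylow `p`-subgroups, all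
`p'`-subgroups abelian, all proper subgroups satisfying the conclusion, and the transfer
property `hT`, does not exist. -/
theorem h18_simple_case.{u} {G : Type u} [Group G] [Finite G] {p : ℕ} [Fact p.Prime]
    [IsSimpleGroup G] (hna : ∃ a b : G, a * b ≠ b * a) (hcyc : ∀ P : Sylow p G, IsCyclic P)
    (hab : ∀ H : Subgroup G, ¬ p ∣ Nat.card H → IsMulCommutative H)
    (hmin : ∀ H : Subgroup G, H ≠ ⊤ → ∀ P1 : Sylow p H,
      Cfsg.HasNormalPComplement p H ∨ (P1 : Subgroup H).Normal)
    (hT : ∀ (q : ℕ) [Fact q.Prime] (Q : Sylow q G), IsMulCommutative Q → ∀ y ∈ Q,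
      (∀ n ∈ Subgroup.normalizer ((Q : Subgroup G) : Set G), n * y = y * n) → y = 1) :
    False := by
  classical
  obtain ⟨P⟩ : Nonempty (Sylow p G) := inferInstance
  have hP : (P : Subgroup G) ≠ ⊥ := by
    intro hbot
    have h1 : ¬ p ∣ Nat.card (⊤ : Subgroup G) := by
      have h0 := P.not_dvd_index
      rw [hbot, Subgroup.index_bot] at h0
      rw [Subgroup.card_top]; exact h0
    have h2 := hab ⊤ h1
    obtain ⟨a, b, hne⟩ := hna
    apply hne
    have h3 := h2.is_comm.comm (⟨a, Subgroup.mem_top a⟩ : (⊤ : Subgroup G))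
      ⟨b, Subgroup.mem_top b⟩
    exact congrArg Subtype.val h3
  obtain ⟨L, hPL, hsup, -, hLab, -, -, hdvd⟩ := h2_exists_compl P (hcyc P) hab
  have hNC := burnside_nc hna P (hcyc P) hP
  have hPab : IsMulCommutative P := @IsCyclic.isMulCommutative _ _ (hcyc P)
  have hPC : (P : Subgroup G) ≤ Subgroup.centralizer ((P : Subgroup G) : Set G) := by
    intro y hy
    rw [Subgroup.mem_centralizer_iff]
    intro z hz
    have h3 := hPab.is_comm.comm (⟨z, hz⟩ : ↥P) ⟨y, hy⟩
    exact congrArg Subtype.val h3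
  have hne : ¬ L ≤ Subgroup.centralizer ((P : Subgroup G) : Set G) := by
    intro h
    apply hNC
    rw [← hsup]
    exact sup_le hPC h
  have hQ : ∀ (q : ℕ) [Fact q.Prime], q ≠ p → ∀ Q : Sylow q G, Nat.card Q % p = 1 :=
    fun q _ hq Q => sylow_q_mod hna hab hmin hT hq Q
  have hmod : Nat.card L % p = 1 := h2_compl_card_mod P hQ L hPL hsup
  have hL0 := h2_L0_ne_bot P hQ L hPL hsup hdvd hne
  obtain ⟨P1, hP1, hnorm, hTI1⟩ := exists_p1 hna P (hcyc P) hP hmin hab hT L hPL hsup hL0
  exact h18_final_count hna P (hcyc P) hab hmin L P1 hLab hsup hne hdvd hmod hP1 hnorm hTI1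

end Cfsg.Agent.S4016P
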