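import Mathlib
import Cfsg.Prelude
import Cfsg.Agent.Helper5.S4Sec

/-!
# `S₄` is involved iff `S₃` is involved in some `N(T)/C(T)`, `T` a 2-subgroup (helper18)
-/

set_option autoImplicit false
set_option linter.style.haveILetI false

namespace Cfsg.Agent.Helper18

open Cfsg

/-- involvement lifts along surjections -/
theorem s4c_inv_surj {G G' : Type*} [Group G] [Group G'] {T : Type*} [Group T] (f : G →* G')
    (hf : Function.Surjective f) (h : Cfsg.Involves T G') : Cfsg.Involves T G := by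
  obtain ⟨K, R, hn, ⟨e⟩⟩ := h
  haveI := hn
  obtain ⟨L, hL, hne⟩ := Cfsg.Agent.Helper5.sec_of_surj (K.comap f)
    ((e.toMonoidHom.comp (QuotientGroup.mk' (R.subgroupOf K))).comp (f.subgroupComap K))
    ((e.surjective.comp (QuotientGroup.mk'_surjective _)).comp
      (f.subgroupComap_surjective_of_surjective K hf))
  exact ⟨K.comap f, L, hL, hne⟩

/-- involvement passes from a subgroup to the group -/
theorem s4c_inv_sub {G : Type*} [Group G] {T : Type*} [Group T] (H : Subgroup G)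
    (h : Cfsg.Involves T ↥H) : Cfsg.Involves T G := by
  obtain ⟨K, R, hn, ⟨e⟩⟩ := h
  haveI := hn
  obtain ⟨L, hL, hne⟩ := Cfsg.Agent.Helper5.sec_of_surj (K.map H.subtype)
    ((e.toMonoidHom.comp (QuotientGroup.mk' (R.subgroupOf K))).comp
      (K.equivMapOfInjective H.subtype H.subtype_injective).symm.toMonoidHom)
    ((e.surjective.comp (QuotientGroup.mk'_surjective _)).comp
      (K.equivMapOfInjective H.subtype H.subtype_injective).symm.surjective)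
  exact ⟨K.map H.subtype, L, hL, hne⟩

/-- index of the partition of `{0,1,2,3}` into two pairs containing the pair `{a, b}` -/
def s4cIdx (a b : Fin 4) : Fin 3 :=
  if a = 0 then ⟨(b.val + 2) % 3, Nat.mod_lt _ (by norm_num)⟩
  else if b = 0 then ⟨(a.val + 2) % 3, Nat.mod_lt _ (by norm_num)⟩
  else ⟨(5 - a.val - b.val) % 3, Nat.mod_lt _ (by norm_num)⟩

def s4cQf (σ : Equiv.Perm (Fin 4)) (i : Fin 3) : Fin 3 := s4cIdx (σ 0) (σ i.succ)

set_option maxRecDepth 100000 in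
theorem s4cQf_mul : ∀ σ τ : Equiv.Perm (Fin 4), ∀ i : Fin 3,
    s4cQf (σ * τ) i = s4cQf σ (s4cQf τ i) := by
  decide

theorem s4cQf_one : ∀ i : Fin 3, s4cQf 1 i = i := by decide

/-- the homomorphism `S₄ → S₃` -/
def s4cQ : Equiv.Perm (Fin 4) →* Equiv.Perm (Fin 3) where
  toFun σ := ⟨s4cQf σ, s4cQf σ⁻¹,
    fun i => by rw [← s4cQf_mul, inv_mul_cancel, s4cQf_one],
    fun i => by rw [← s4cQf_mul, mul_inv_cancel, s4cQf_one]⟩
  map_one' := Equiv.ext fun i => s4cQf_one i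
  map_mul' σ τ := Equiv.ext fun i => s4cQf_mul σ τ i

set_option maxRecDepth 100000 in
theorem s4cQ_surj : ∀ ρ : Equiv.Perm (Fin 3), ∃ σ : Equiv.Perm (Fin 4), s4cQ σ = ρ := by
  decide

set_option maxRecDepth 100000 in
theorem s4cQ_ker_sq : ∀ v : Equiv.Perm (Fin 4), s4cQ v = 1 → v * v = 1 := by decide

set_option maxRecDepth 100000 in
theorem s4cQ_cent : ∀ g : Equiv.Perm (Fin 4),
    (∀ v : Equiv.Perm (Fin 4), s4cQ v = 1 → g * v = v * g) → s4cQ g = 1 := by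
  decide

theorem s4c_s3_sq : ∀ τ : Equiv.Perm (Fin 3), Equiv.Perm.sign τ = -1 → τ * τ = 1 := by decide

theorem s4c_s3_inv : ∀ τ c : Equiv.Perm (Fin 3), Equiv.Perm.sign τ = -1 →
    Equiv.Perm.sign c = 1 → τ * c * τ⁻¹ = c⁻¹ := by decide

theorem s4c_s3_ne : ∀ c : Equiv.Perm (Fin 3), Equiv.Perm.sign c = 1 → c ≠ 1 →
    c⁻¹ * c⁻¹ ≠ 1 := by decide

theorem s4c_s3_ex : ∃ c : Equiv.Perm (Fin 3), Equiv.Perm.sign c = 1 ∧ c ≠ 1 := by decide

theorem s4c_s3_ex2 : ∃ c : Equiv.Perm (Fin 3), Equiv.Perm.sign c = -1 := by decide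

/-- the forward direction -/
theorem s4c_forward {G : Type*} [Group G] [Finite G]
    (h : Cfsg.Involves (Equiv.Perm (Fin 4)) G) :
    ∃ T : Subgroup G, IsPGroup 2 ↥T ∧ Cfsg.Involves (Equiv.Perm (Fin 3))
      (↥(Subgroup.normalizer (T : Set G)) ⧸
        (Subgroup.centralizer (T : Set G)).subgroupOf (Subgroup.normalizer (T : Set G))) := by
  classical
  haveI : Fact (Nat.Prime 2) := ⟨Nat.prime_two⟩
  obtain ⟨K, R, hn, ⟨e⟩⟩ := h
  haveI := hn
  obtain ⟨π, hπ⟩ : ∃ π : ↥K →* Equiv.Perm (Fin 4),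
      π = e.toMonoidHom.comp (QuotientGroup.mk' (R.subgroupOf K)) := ⟨_, rfl⟩
  have hπs : Function.Surjective π := by
    rw [hπ]; exact e.surjective.comp (QuotientGroup.mk'_surjective _)
  obtain ⟨φ, hφ⟩ : ∃ φ : ↥K →* Equiv.Perm (Fin 3), φ = s4cQ.comp π := ⟨_, rfl⟩
  have hφa : ∀ x, φ x = s4cQ (π x) := by intro x; rw [hφ]; rfl
  obtain ⟨V, hV⟩ : ∃ V : Subgroup ↥K, V = φ.ker := ⟨_, rfl⟩
  haveI hVn : V.Normal := by rw [hV]; infer_instance
  have hVmem : ∀ x : ↥K, x ∈ V ↔ s4cQ (π x) = 1 := by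
    intro x; rw [hV, MonoidHom.mem_ker, hφa]
  obtain ⟨P⟩ : Nonempty (Sylow 2 ↥V) := inferInstance
  obtain ⟨T₀, hT₀⟩ : ∃ T₀ : Subgroup ↥K, T₀ = (P : Subgroup ↥V).map V.subtype := ⟨_, rfl⟩
  have hfrat : Subgroup.normalizer (T₀ : Set ↥K) ⊔ V = ⊤ := by
    rw [hT₀]; exact Sylow.normalizer_sup_eq_top P
  have hT₀p : IsPGroup 2 T₀ := by rw [hT₀]; exact P.isPGroup'.map _
  -- the image of `T₀` is the whole kernel of `s4cQ`
  have hkerp : IsPGroup 2 s4cQ.ker := by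
    rintro ⟨v, hv⟩
    refine ⟨1, Subtype.ext ?_⟩
    show v ^ 2 ^ 1 = 1
    rw [pow_one, pow_two]; exact s4cQ_ker_sq v (MonoidHom.mem_ker.mp hv)
  have hπV : ∀ x : ↥V, π (x : ↥K) ∈ s4cQ.ker := fun x =>
    MonoidHom.mem_ker.mpr ((hVmem x).mp x.2)
  obtain ⟨f, hf⟩ : ∃ f : ↥V →* ↥s4cQ.ker, f = (π.comp V.subtype).codRestrict s4cQ.ker hπV :=
    ⟨_, rfl⟩
  have hfa : ∀ x : ↥V, ((f x : ↥s4cQ.ker) : Equiv.Perm (Fin 4)) = π (x : ↥K) := by
    intro x; rw [hf]; rfl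
  have hfs : Function.Surjective f := by
    rintro ⟨v, hv⟩
    obtain ⟨x, hx⟩ := hπs v
    have hxV : x ∈ V := by rw [hVmem, hx]; exact MonoidHom.mem_ker.mp hv
    exact ⟨⟨x, hxV⟩, Subtype.ext (by rw [hfa]; exact hx)⟩
  have himg : (P : Subgroup ↥V).map f = ⊤ := by
    rw [← Subgroup.index_eq_one]
    have h1 : ((P : Subgroup ↥V).map f).index ∣ (P : Subgroup ↥V).index :=
      Subgroup.index_map_dvd _ hfs
    have h2 : ¬ 2 ∣ (P : Subgroup ↥V).index := P.not_dvd_index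
    have h3 : ((P : Subgroup ↥V).map f).index ∣ Nat.card ↥s4cQ.ker := Subgroup.index_dvd_card _
    obtain ⟨k, hk⟩ := IsPGroup.iff_card.mp hkerp
    rw [hk] at h3
    obtain ⟨j, -, hj⟩ := (Nat.dvd_prime_pow Nat.prime_two).mp h3
    rcases Nat.eq_zero_or_pos j with h0 | hpos
    · rw [hj, h0, pow_zero]
    · exfalso
      apply h2
      have h4 : 2 ∣ ((P : Subgroup ↥V).map f).index := by
        rw [hj]; exact dvd_pow_self 2 (by omega)
      exact h4.trans h1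
  have hker_img : ∀ v : Equiv.Perm (Fin 4), s4cQ v = 1 → ∃ t ∈ T₀, π t = v := by
    intro v hv
    have h1 : (⟨v, MonoidHom.mem_ker.mpr hv⟩ : ↥s4cQ.ker) ∈ (P : Subgroup ↥V).map f := by
      rw [himg]; exact Subgroup.mem_top _
    obtain ⟨x, hxP, hx⟩ := Subgroup.mem_map.mp h1
    refine ⟨(x : ↥K), ?_, ?_⟩
    · rw [hT₀]; exact Subgroup.mem_map.mpr ⟨x, hxP, rfl⟩
    · rw [← hfa, hx]
  -- the 2-subgroup of `G`
  obtain ⟨T, hT⟩ : ∃ T : Subgroup G, T = T₀.map K.subtype := ⟨_, rfl⟩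
  have hTp : IsPGroup 2 T := by rw [hT]; exact hT₀p.map _
  refine ⟨T, hTp, ?_⟩
  obtain ⟨M₀, hM₀⟩ : ∃ M₀ : Subgroup ↥K, M₀ = Subgroup.normalizer (T₀ : Set ↥K) := ⟨_, rfl⟩
  have hMN : ∀ x : ↥M₀, ((x : ↥K) : G) ∈ Subgroup.normalizer (T : Set G) := by
    intro x
    have hx : (x : ↥K) ∈ Subgroup.normalizer (T₀ : Set ↥K) := by rw [← hM₀]; exact x.2
    rw [Subgroup.mem_normalizer_iff]
    intro g
    constructor
    · intro hg
      rw [hT] at hg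
      obtain ⟨t, ht, rfl⟩ := Subgroup.mem_map.mp hg
      rw [hT]
      exact Subgroup.mem_map.mpr ⟨(x : ↥K) * t * (x : ↥K)⁻¹,
        (Subgroup.mem_normalizer_iff.mp hx t).mp ht, rfl⟩
    · intro hg
      rw [hT] at hg
      obtain ⟨t, ht, htg⟩ := Subgroup.mem_map.mp hg
      rw [hT]
      refine Subgroup.mem_map.mpr ⟨(x : ↥K)⁻¹ * t * (x : ↥K), ?_, ?_⟩
      · apply (Subgroup.mem_normalizer_iff.mp hx _).mpr
        have : (x : ↥K) * ((x : ↥K)⁻¹ * t * (x : ↥K)) * (x : ↥K)⁻¹ = t := by group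
        rw [this]; exact ht
      · have h2 : ((t : ↥K) : G) = ((x : ↥K) : G) * g * ((x : ↥K) : G)⁻¹ := htg
        show (((x : ↥K)⁻¹ * t * (x : ↥K) : ↥K) : G) = g
        rw [Subgroup.coe_mul, Subgroup.coe_mul, Subgroup.coe_inv, h2]; group
  obtain ⟨ι, hι⟩ : ∃ ι : ↥M₀ →* ↥(Subgroup.normalizer (T : Set G)),
      ∀ x : ↥M₀, ((ι x : ↥(Subgroup.normalizer (T : Set G))) : G) = ((x : ↥K) : G) :=
    ⟨((K.subtype.comp M₀.subtype).codRestrict (Subgroup.normalizer (T : Set G)) hMN),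
      fun x => rfl⟩
  obtain ⟨ψ, hψ⟩ : ∃ ψ : ↥M₀ →* (↥(Subgroup.normalizer (T : Set G)) ⧸
      (Subgroup.centralizer (T : Set G)).subgroupOf (Subgroup.normalizer (T : Set G))),
      ψ = (QuotientGroup.mk' _).comp ι := ⟨_, rfl⟩
  obtain ⟨φ₀, hφ₀⟩ : ∃ φ₀ : ↥M₀ →* Equiv.Perm (Fin 3), φ₀ = φ.comp M₀.subtype := ⟨_, rfl⟩
  have hφ₀s : Function.Surjective φ₀ := by
    intro ρ
    obtain ⟨σ, hσ⟩ := s4cQ_surj ρ
    obtain ⟨x, hx⟩ := hπs σ
    have hx' : x ∈ ((Subgroup.normalizer (T₀ : Set ↥K) ⊔ V : Subgroup ↥K) : Set ↥K) := by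
      rw [hfrat]; exact Subgroup.mem_top x
    rw [Subgroup.mul_normal] at hx'
    obtain ⟨m, hm, v, hv, rfl⟩ := Set.mem_mul.mp hx'
    have hmM : m ∈ M₀ := by rw [hM₀]; exact hm
    refine ⟨⟨m, hmM⟩, ?_⟩
    rw [hφ₀]
    show φ m = ρ
    have h1 : φ (m * v) = ρ := by rw [hφa, hx, hσ]
    rw [map_mul] at h1
    have h2 : φ v = 1 := by rw [hφa]; exact (hVmem v).mp hv
    rw [h2, mul_one] at h1
    exact h1
  have hker : ψ.ker ≤ φ₀.ker := by
    intro x hx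
    rw [MonoidHom.mem_ker] at hx ⊢
    rw [hψ] at hx
    have h1 : ι x ∈ (Subgroup.centralizer (T : Set G)).subgroupOf
        (Subgroup.normalizer (T : Set G)) := (QuotientGroup.eq_one_iff _).mp hx
    rw [Subgroup.mem_subgroupOf, hι] at h1
    rw [hφ₀]
    show φ (x : ↥K) = 1
    rw [hφa]
    apply s4cQ_cent
    intro v hv
    obtain ⟨t, ht, rfl⟩ := hker_img v hv
    rw [← map_mul, ← map_mul]
    congr 1
    apply Subtype.ext
    rw [Subgroup.coe_mul, Subgroup.coe_mul]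
    have htT : (t : G) ∈ T := by rw [hT]; exact Subgroup.mem_map.mpr ⟨t, ht, rfl⟩
    exact (Subgroup.mem_centralizer_iff.mp h1 (t : G) htT).symm
  obtain ⟨θ, hθ⟩ : ∃ θ : ↥ψ.range →* Equiv.Perm (Fin 3), Function.Surjective θ := by
    obtain ⟨l, hl⟩ : ∃ l : ↥M₀ ⧸ ψ.ker →* Equiv.Perm (Fin 3),
        l = QuotientGroup.lift ψ.ker φ₀ hker := ⟨_, rfl⟩
    have hls : Function.Surjective l := by
      intro ρ
      obtain ⟨x, hx⟩ := hφ₀s ρ
      exact ⟨QuotientGroup.mk x, by rw [hl, QuotientGroup.lift_mk]; exact hx⟩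
    refine ⟨l.comp (QuotientGroup.quotientKerEquivRange ψ).symm.toMonoidHom, ?_⟩
    intro ρ
    obtain ⟨z, hz⟩ := hls ρ
    obtain ⟨w, hw⟩ := (QuotientGroup.quotientKerEquivRange ψ).symm.surjective z
    refine ⟨w, ?_⟩
    show l ((QuotientGroup.quotientKerEquivRange ψ).symm w) = ρ
    rw [hw, hz]
  obtain ⟨L, hL, hne⟩ := Cfsg.Agent.Helper5.sec_of_surj ψ.range θ hθ
  exact ⟨ψ.range, L, hL, hne⟩

end Cfsg.Agent.Helper18
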