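import Mathlib
import Cfsg.Prelude
import Cfsg.Agent.Helper18.S4Crit

/-!
# `S₄` is involved iff `S₃` is involved in some `N(T)/C(T)`: the converse direction (helper18)
-/

set_option autoImplicit false
set_option linter.style.haveILetI false

universe u

namespace Cfsg.Agent.Helper18

open Cfsg

/-- an element of odd order stabilizing the series `1 ≤ ⟨c⟩ ≤ …` acts trivially -/
theorem s4c_stab {H : Type*} [Group H] (y t c : H) (n : ℕ) (hn : Odd n) (hy : y ^ n = 1)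
    (hc2 : c * c = 1) (hyc : y * c = c * y) (h : y * t * y⁻¹ = c * t) : c = 1 := by
  have key : ∀ m : ℕ, y ^ m * t * (y ^ m)⁻¹ = c ^ m * t := by
    intro m
    induction m with
    | zero => simp
    | succ m ih =>
      have hcm : y * c ^ m = c ^ m * y := (Commute.pow_right (show Commute y c from hyc) m).eq
      calc y ^ (m + 1) * t * (y ^ (m + 1))⁻¹ = y * (y ^ m * t * (y ^ m)⁻¹) * y⁻¹ := by
            rw [pow_succ']; group
        _ = y * (c ^ m * t) * y⁻¹ := by rw [ih]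
        _ = (y * c ^ m) * t * y⁻¹ := by group
        _ = c ^ m * (y * t * y⁻¹) := by rw [hcm]; group
        _ = c ^ (m + 1) * t := by rw [h, pow_succ]; group
  have h1 := key n
  rw [hy] at h1
  have h2 : c ^ n = 1 := by simpa using h1
  obtain ⟨k, rfl⟩ := hn
  rw [pow_succ, pow_mul, pow_two, hc2, one_pow, one_mul] at h2
  exact h2

/-- a group mapping onto `S₃` has a 2-element inverting a 3-element that maps nontrivially -/
theorem s4c_elems {X : Type*} [Group X] [Finite X] (χ : X →* Equiv.Perm (Fin 3))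
    (hχ : Function.Surjective χ) :
    ∃ a y : X, (∃ k : ℕ, a ^ 2 ^ k = 1) ∧ (∃ j : ℕ, y ^ 3 ^ j = 1) ∧
      a * y * a⁻¹ = y⁻¹ ∧ χ y ≠ 1 := by
  classical
  haveI : Fact (Nat.Prime 2) := ⟨Nat.prime_two⟩
  haveI : Fact (Nat.Prime 3) := ⟨Nat.prime_three⟩
  obtain ⟨s, hs⟩ : ∃ s : X →* ℤˣ, s = Equiv.Perm.sign.comp χ := ⟨_, rfl⟩
  have hsa : ∀ x, s x = Equiv.Perm.sign (χ x) := by intro x; rw [hs]; rfl
  obtain ⟨L, hL⟩ : ∃ L : Subgroup X, L = s.ker := ⟨_, rfl⟩
  haveI hLn : L.Normal := by rw [hL]; infer_instance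
  have hLmem : ∀ x, x ∈ L ↔ Equiv.Perm.sign (χ x) = 1 := by
    intro x; rw [hL, MonoidHom.mem_ker, hsa]
  obtain ⟨Y⟩ : Nonempty (Sylow 3 ↥L) := inferInstance
  obtain ⟨Y₀, hY₀⟩ : ∃ Y₀ : Subgroup X, Y₀ = (Y : Subgroup ↥L).map L.subtype := ⟨_, rfl⟩
  have hfrat : Subgroup.normalizer (Y₀ : Set X) ⊔ L = ⊤ := by
    rw [hY₀]; exact Sylow.normalizer_sup_eq_top Y
  have hY₀p : IsPGroup 3 Y₀ := by rw [hY₀]; exact Y.isPGroup'.map _
  have hY₀L : Y₀ ≤ L := by
    rw [hY₀]; rintro _ ⟨x, -, rfl⟩; exact x.2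
  -- an element of the normalizer outside `L`
  obtain ⟨a₀, ha₀N, ha₀s⟩ : ∃ a₀ ∈ Subgroup.normalizer (Y₀ : Set X),
      Equiv.Perm.sign (χ a₀) = -1 := by
    obtain ⟨τ, hτ⟩ := s4c_s3_ex2
    obtain ⟨x, hx⟩ := hχ τ
    have hx' : x ∈ ((Subgroup.normalizer (Y₀ : Set X) ⊔ L : Subgroup X) : Set X) := by
      rw [hfrat]; exact Subgroup.mem_top x
    rw [Subgroup.mul_normal] at hx'
    obtain ⟨m, hm, l, hl, rfl⟩ := Set.mem_mul.mp hx'
    refine ⟨m, hm, ?_⟩
    have h1 : Equiv.Perm.sign (χ (m * l)) = -1 := by rw [hx, hτ]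
    rw [map_mul, map_mul, (hLmem l).mp hl, mul_one] at h1
    exact h1
  -- its 2-part
  obtain ⟨k, m, hm, hkm⟩ := Nat.exists_eq_two_pow_mul_odd (orderOf_pos a₀).ne'
  obtain ⟨a, ha⟩ : ∃ a : X, a = a₀ ^ m := ⟨_, rfl⟩
  have haN : a ∈ Subgroup.normalizer (Y₀ : Set X) := by
    rw [ha]; exact Subgroup.pow_mem _ ha₀N m
  have ha2 : a ^ 2 ^ k = 1 := by
    rw [ha, ← pow_mul, mul_comm, ← hkm, pow_orderOf_eq_one]
  have has : Equiv.Perm.sign (χ a) = -1 := by
    rw [ha, map_pow, map_pow, ha₀s]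
    exact Odd.neg_one_pow hm
  -- `Y₀` is not in the kernel
  obtain ⟨y₀, hy₀Y, hy₀c⟩ : ∃ y₀ ∈ Y₀, χ y₀ ≠ 1 := by
    have hχL : ∀ x : ↥L, χ (x : X) ∈ alternatingGroup (Fin 3) := fun x =>
      Equiv.Perm.mem_alternatingGroup.mpr ((hLmem x).mp x.2)
    obtain ⟨f, hf⟩ : ∃ f : ↥L →* ↥(alternatingGroup (Fin 3)),
        f = (χ.comp L.subtype).codRestrict _ hχL := ⟨_, rfl⟩
    have hfa : ∀ x : ↥L, ((f x : ↥(alternatingGroup (Fin 3))) : Equiv.Perm (Fin 3)) =
        χ (x : X) := by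
      intro x; rw [hf]; rfl
    have hfs : Function.Surjective f := by
      rintro ⟨c, hc⟩
      obtain ⟨x, hx⟩ := hχ c
      have hxL : x ∈ L := by rw [hLmem, hx]; exact Equiv.Perm.mem_alternatingGroup.mp hc
      exact ⟨⟨x, hxL⟩, Subtype.ext (by rw [hfa]; exact hx)⟩
    have hcard : Nat.card ↥(alternatingGroup (Fin 3)) = 3 := by
      have h1 := two_mul_nat_card_alternatingGroup (α := Fin 3)
      have h2 : Nat.card (Equiv.Perm (Fin 3)) = 6 := by
        rw [Nat.card_eq_fintype_card, Fintype.card_perm, Fintype.card_fin]; rfl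
      omega
    have himg : (Y : Subgroup ↥L).map f = ⊤ := by
      rw [← Subgroup.index_eq_one]
      have h1 : ((Y : Subgroup ↥L).map f).index ∣ (Y : Subgroup ↥L).index :=
        Subgroup.index_map_dvd _ hfs
      have h2 : ¬ 3 ∣ (Y : Subgroup ↥L).index := Y.not_dvd_index
      have h3 : ((Y : Subgroup ↥L).map f).index ∣ 3 := by
        have h0 := Subgroup.index_dvd_card ((Y : Subgroup ↥L).map f)
        rwa [hcard] at h0
      rcases (Nat.dvd_prime Nat.prime_three).mp h3 with h4 | h4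
      · exact h4
      · exfalso
        apply h2
        have h5 := h1
        rw [h4] at h5
        exact h5
    obtain ⟨c, hc1, hc2⟩ := s4c_s3_ex
    have h1 : (⟨c, Equiv.Perm.mem_alternatingGroup.mpr hc1⟩ : ↥(alternatingGroup (Fin 3))) ∈
        (Y : Subgroup ↥L).map f := by
      rw [himg]; exact Subgroup.mem_top _
    obtain ⟨x, hxY, hx⟩ := Subgroup.mem_map.mp h1
    refine ⟨(x : X), ?_, ?_⟩
    · rw [hY₀]; exact Subgroup.mem_map.mpr ⟨x, hxY, rfl⟩
    · rw [← hfa, hx]; exact hc2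
  obtain ⟨b, hb⟩ : ∃ b : X, b = a * a := ⟨_, rfl⟩
  have hbN : b ∈ Subgroup.normalizer (Y₀ : Set X) := by
    rw [hb]; exact Subgroup.mul_mem _ haN haN
  have hbχ : χ b = 1 := by rw [hb, map_mul]; exact s4c_s3_sq _ has
  have hbk : b ^ 2 ^ k = 1 := by
    rw [hb, ← pow_two, ← pow_mul, mul_comm, pow_mul, ha2, one_pow]
  -- a fixed point of conjugation by `b` in the coset of `y₀`
  obtain ⟨y₁, hy₁Y, hy₁χ, hy₁b⟩ : ∃ y₁ ∈ Y₀, χ y₁ = χ y₀ ∧ b * y₁ * b⁻¹ = y₁ := by
    have hBp : IsPGroup 2 ↥(Subgroup.zpowers b) := by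
      rintro ⟨g, hg⟩
      obtain ⟨i, rfl⟩ := Subgroup.mem_zpowers_iff.mp hg
      refine ⟨k, Subtype.ext ?_⟩
      show (b ^ i) ^ 2 ^ k = 1
      rw [← zpow_natCast (b ^ i), ← zpow_mul, mul_comm, zpow_mul, zpow_natCast, hbk, one_zpow]
    have hbpow : ∀ g ∈ Subgroup.zpowers b,
        g ∈ Subgroup.normalizer (Y₀ : Set X) ∧ χ g = 1 := by
      intro g hg
      obtain ⟨i, rfl⟩ := Subgroup.mem_zpowers_iff.mp hg
      exact ⟨Subgroup.zpow_mem _ hbN i, by rw [map_zpow, hbχ, one_zpow]⟩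
    letI : MulAction ↥(Subgroup.zpowers b) {y : X // y ∈ Y₀ ∧ χ y = χ y₀} :=
      { smul := fun g y => ⟨(g : X) * y.1 * (g : X)⁻¹,
          (Subgroup.mem_normalizer_iff.mp (hbpow g g.2).1 y.1).mp y.2.1, by
            rw [map_mul, map_mul, map_inv, (hbpow g g.2).2, one_mul, inv_one, mul_one]
            exact y.2.2⟩
        one_smul := fun y => Subtype.ext (by
          show ((1 : ↥(Subgroup.zpowers b)) : X) * y.1 * ((1 : ↥(Subgroup.zpowers b)) : X)⁻¹ = y.1
          rw [Subgroup.coe_one]; group)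
        mul_smul := fun g h y => Subtype.ext (by
          show ((g * h : ↥(Subgroup.zpowers b)) : X) * y.1 *
            ((g * h : ↥(Subgroup.zpowers b)) : X)⁻¹ =
            (g : X) * ((h : X) * y.1 * (h : X)⁻¹) * (g : X)⁻¹
          rw [Subgroup.coe_mul]; group) }
    have hcardΩ : Nat.card {y : X // y ∈ Y₀ ∧ χ y = χ y₀} = Nat.card ↥(Y₀ ⊓ χ.ker) := by
      apply Nat.card_congr
      exact
        { toFun := fun y => ⟨y₀⁻¹ * y.1, Subgroup.mem_inf.mpr
            ⟨Y₀.mul_mem (Y₀.inv_mem hy₀Y) y.2.1, by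
              rw [MonoidHom.mem_ker, map_mul, map_inv, y.2.2, inv_mul_cancel]⟩⟩
          invFun := fun z => ⟨y₀ * z.1, Y₀.mul_mem hy₀Y (Subgroup.mem_inf.mp z.2).1, by
            rw [map_mul, MonoidHom.mem_ker.mp (Subgroup.mem_inf.mp z.2).2, mul_one]⟩
          left_inv := fun y => Subtype.ext (by simp)
          right_inv := fun z => Subtype.ext (by simp) }
    have hodd : ¬ 2 ∣ Nat.card {y : X // y ∈ Y₀ ∧ χ y = χ y₀} := by
      rw [hcardΩ]
      obtain ⟨n, hn⟩ := IsPGroup.iff_card.mp (hY₀p.to_le (inf_le_left : Y₀ ⊓ χ.ker ≤ Y₀))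
      rw [hn]
      intro h
      have := Nat.Prime.dvd_of_dvd_pow Nat.prime_two h
      omega
    obtain ⟨⟨y₁, hy₁⟩, hfix⟩ := hBp.nonempty_fixed_point_of_prime_not_dvd_card
      {y : X // y ∈ Y₀ ∧ χ y = χ y₀} hodd
    refine ⟨y₁, hy₁.1, hy₁.2, ?_⟩
    have h1 := hfix ⟨b, Subgroup.mem_zpowers b⟩
    exact congrArg Subtype.val h1
  obtain ⟨y, hy⟩ : ∃ y : X, y = y₁⁻¹ * (a * y₁ * a⁻¹) := ⟨_, rfl⟩
  have hayY : a * y₁ * a⁻¹ ∈ Y₀ := (Subgroup.mem_normalizer_iff.mp haN y₁).mp hy₁Y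
  have hyY : y ∈ Y₀ := by rw [hy]; exact Y₀.mul_mem (Y₀.inv_mem hy₁Y) hayY
  refine ⟨a, y, ⟨k, ha2⟩, ?_, ?_, ?_⟩
  · obtain ⟨j, hj⟩ := hY₀p ⟨y, hyY⟩
    refine ⟨j, ?_⟩
    have h1 := congrArg Subtype.val hj
    rwa [Subgroup.coe_pow, Subgroup.coe_one] at h1
  · rw [hy]
    have h1 : a * (a * y₁ * a⁻¹) * a⁻¹ = y₁ := by
      have : a * (a * y₁ * a⁻¹) * a⁻¹ = (a * a) * y₁ * (a * a)⁻¹ := by group
      rw [this, ← hb]; exact hy₁b
    calc a * (y₁⁻¹ * (a * y₁ * a⁻¹)) * a⁻¹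
        = (a * y₁ * a⁻¹)⁻¹ * (a * (a * y₁ * a⁻¹) * a⁻¹) := by group
      _ = (a * y₁ * a⁻¹)⁻¹ * y₁ := by rw [h1]
      _ = (y₁⁻¹ * (a * y₁ * a⁻¹))⁻¹ := by group
  · rw [hy, map_mul, map_inv, map_mul, map_mul, map_inv, hy₁χ]
    have hc1 : Equiv.Perm.sign (χ y₀) = 1 := (hLmem y₀).mp (hY₀L hy₀Y)
    rw [s4c_s3_inv _ _ has hc1]
    exact s4c_s3_ne _ hc1 hy₀c

/-- the inductive core: a normal 2-subgroup `T`, `a` with `a² ∈ T` inverting a 3-element `y`
that does not centralize `T`. -/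
theorem s4c_core : ∀ (n : ℕ) (H : Type u) [Group H] [Finite H] (T : Subgroup H) [T.Normal],
    Nat.card T ≤ n → IsPGroup 2 T → ∀ (a y : H) (j : ℕ), a * a ∈ T → y ^ 3 ^ j = 1 →
    a * y * a⁻¹ = y⁻¹ → (∃ t ∈ T, y * t ≠ t * y) →
    Cfsg.Involves (Equiv.Perm (Fin 4)) H := by
  intro n
  induction n with
  | zero =>
    intro H _ _ T _ hn
    have := Nat.card_pos (α := T)
    omega
  | succ n ih =>
    intro H _ _ T hTn hn hT a y j haT hy3 hay hyT
    obtain ⟨t₀, ht₀T, ht₀⟩ := hyT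
    classical
    haveI : Fact (Nat.Prime 2) := ⟨Nat.prime_two⟩
    have h3odd : Odd (3 ^ j) := Odd.pow (by decide)
    -- `Z = Ω₁(Z(T))`
    obtain ⟨Z, hZ⟩ : ∃ Z : Subgroup H,
        ∀ z, z ∈ Z ↔ (z ∈ T ∧ z * z = 1 ∧ ∀ t ∈ T, z * t = t * z) := by
      refine ⟨{ carrier := {z | z ∈ T ∧ z * z = 1 ∧ ∀ t ∈ T, z * t = t * z}
                mul_mem' := ?_, one_mem' := ?_, inv_mem' := ?_ }, fun z => Iff.rfl⟩
      · rintro u v ⟨hu, hu2, huc⟩ ⟨hv, hv2, hvc⟩
        refine ⟨T.mul_mem hu hv, ?_, ?_⟩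
        · have h1 := huc v hv
          calc u * v * (u * v) = u * (v * u) * v := by group
            _ = u * (u * v) * v := by rw [← h1]
            _ = (u * u) * (v * v) := by group
            _ = 1 := by rw [hu2, hv2, mul_one]
        · intro t ht
          calc u * v * t = u * (v * t) := by group
            _ = u * (t * v) := by rw [hvc t ht]
            _ = (u * t) * v := by group
            _ = t * (u * v) := by rw [huc t ht]; group
      · exact ⟨T.one_mem, by group, fun t _ => by group⟩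
      · rintro u ⟨hu, hu2, huc⟩
        have hinv : u⁻¹ = u := inv_eq_of_mul_eq_one_left hu2
        rw [hinv]; exact ⟨hu, hu2, huc⟩
    haveI hZn : Z.Normal := by
      constructor
      intro z hz g
      rw [hZ] at hz ⊢
      obtain ⟨hzT, hz2, hzc⟩ := hz
      refine ⟨hTn.conj_mem z hzT g, ?_, ?_⟩
      · calc g * z * g⁻¹ * (g * z * g⁻¹) = g * (z * z) * g⁻¹ := by group
          _ = 1 := by rw [hz2]; group
      · intro t ht
        have h0 : g⁻¹ * t * g ∈ T := by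
          have := hTn.conj_mem t ht g⁻¹
          rwa [inv_inv] at this
        have h1 := hzc (g⁻¹ * t * g) h0
        calc g * z * g⁻¹ * t = g * (z * (g⁻¹ * t * g)) * g⁻¹ := by group
          _ = g * ((g⁻¹ * t * g) * z) * g⁻¹ := by rw [h1]
          _ = t * (g * z * g⁻¹) := by group
    have hZT : Z ≤ T := fun z hz => ((hZ z).mp hz).1
    obtain ⟨z₁, hz₁Z, hz₁⟩ : ∃ z ∈ Z, z ≠ 1 := by
      haveI : Nontrivial ↥T := by
        refine ⟨⟨⟨t₀, ht₀T⟩, 1, ?_⟩⟩
        intro h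
        have h1 : t₀ = 1 := congrArg Subtype.val h
        apply ht₀; rw [h1]; group
      haveI := hT.center_nontrivial
      have hcp : IsPGroup 2 ↥(Subgroup.center ↥T) := hT.to_subgroup _
      obtain ⟨k, hk⟩ := IsPGroup.iff_card.mp hcp
      have h2 : 2 ∣ Nat.card ↥(Subgroup.center ↥T) := by
        rw [hk]
        have hk0 : k ≠ 0 := by
          rintro rfl
          rw [pow_zero] at hk
          have := Finite.one_lt_card (α := ↥(Subgroup.center ↥T))
          omega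
        exact dvd_pow_self 2 hk0
      obtain ⟨w, hw⟩ := exists_prime_orderOf_dvd_card' (G := ↥(Subgroup.center ↥T)) 2 h2
      refine ⟨((w : ↥T) : H), ?_, ?_⟩
      · rw [hZ]
        refine ⟨(w : ↥T).2, ?_, ?_⟩
        · have h3 : w ^ 2 = 1 := by rw [← hw]; exact pow_orderOf_eq_one w
          have h4 : (((w ^ 2 : ↥(Subgroup.center ↥T)) : ↥T) : H) = 1 := by rw [h3]; rfl
          rw [Subgroup.coe_pow, Subgroup.coe_pow, pow_two] at h4
          exact h4
        · intro t ht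
          have h5 := Subgroup.mem_center_iff.mp w.2 ⟨t, ht⟩
          have h6 := congrArg Subtype.val h5
          exact h6.symm
      · intro h
        have h7 : w = 1 := by
          apply Subtype.ext; apply Subtype.ext; exact h
        rw [h7, orderOf_one] at hw
        omega
    by_cases hyZ : ∀ z ∈ Z, y * z = z * y
    · -- pass to `H ⧸ Z`
      obtain ⟨q, hq⟩ : ∃ q : H →* H ⧸ Z, q = QuotientGroup.mk' Z := ⟨_, rfl⟩
      have hqs : Function.Surjective q := by rw [hq]; exact QuotientGroup.mk'_surjective Z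
      have hqker : ∀ x, q x = 1 ↔ x ∈ Z := by
        intro x; rw [hq]; exact QuotientGroup.eq_one_iff x
      haveI hTbn : (T.map q).Normal := hTn.map q hqs
      have hcard : Nat.card ↥(T.map q) ≤ n := by
        have hs := q.subgroupMap_surjective T
        have h1 := Subgroup.card_eq_card_quotient_mul_card_subgroup (q.subgroupMap T).ker
        have h2 : Nat.card (↥T ⧸ (q.subgroupMap T).ker) = Nat.card ↥(T.map q) :=
          Nat.card_congr (QuotientGroup.quotientKerEquivOfSurjective _ hs).toEquiv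
        have h3 : 1 < Nat.card ↥(q.subgroupMap T).ker := by
          rw [Subgroup.one_lt_card_iff_ne_bot]
          intro hbot
          have h4 : (⟨z₁, hZT hz₁Z⟩ : ↥T) ∈ (q.subgroupMap T).ker := by
            rw [MonoidHom.mem_ker]
            apply Subtype.ext
            show q z₁ = 1
            rw [hqker]; exact hz₁Z
          rw [hbot, Subgroup.mem_bot] at h4
          exact hz₁ (congrArg Subtype.val h4)
        rw [h2] at h1
        have h5 : Nat.card ↥(T.map q) * 2 ≤ Nat.card ↥(T.map q) * Nat.card ↥(q.subgroupMap T).ker :=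
          Nat.mul_le_mul_left _ h3
        have h6 := Nat.card_pos (α := ↥(T.map q))
        omega
      have hTbp : IsPGroup 2 ↥(T.map q) := hT.map q
      apply s4c_inv_surj q hqs
      refine ih (H ⧸ Z) (T.map q) hcard hTbp (q a) (q y) j ?_ ?_ ?_ ?_
      · rw [← map_mul]; exact Subgroup.mem_map_of_mem q haT
      · rw [← map_pow, hy3, map_one]
      · rw [← map_mul, ← map_inv, ← map_mul, hay, map_inv]
      · by_contra hno
        apply ht₀
        have h1 : q y * q t₀ = q t₀ * q y := by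
          by_contra h'
          exact hno ⟨q t₀, Subgroup.mem_map_of_mem q ht₀T, h'⟩
        have hc : y * t₀ * y⁻¹ * t₀⁻¹ ∈ Z := by
          rw [← hqker, map_mul, map_mul, map_mul, map_inv, map_inv, h1]; group
        have hcZ := (hZ _).mp hc
        have hc1 : y * t₀ * y⁻¹ * t₀⁻¹ = 1 :=
          s4c_stab y t₀ (y * t₀ * y⁻¹ * t₀⁻¹) (3 ^ j) h3odd hy3 hcZ.2.1 (hyZ _ hc) (by group)
        calc y * t₀ = (y * t₀ * y⁻¹ * t₀⁻¹) * t₀ * y := by group
          _ = t₀ * y := by rw [hc1, one_mul]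
    · -- `y` acts nontrivially on `Z`
      obtain ⟨z₂, hz₂Z, hz₂⟩ : ∃ z ∈ Z, y * z ≠ z * y := by
        by_contra hno
        apply hyZ
        intro z hz
        by_contra h'
        exact hno ⟨z, hz, h'⟩
      have hex : ∃ i : ℕ, ∀ z ∈ Z, y ^ 3 ^ i * z = z * y ^ 3 ^ i :=
        ⟨j, fun z _ => by rw [hy3, one_mul, mul_one]⟩
      obtain ⟨i₀, hi₀⟩ : ∃ i₀, i₀ = Nat.find hex := ⟨_, rfl⟩
      have hi₀spec : ∀ z ∈ Z, y ^ 3 ^ i₀ * z = z * y ^ 3 ^ i₀ := by
        rw [hi₀]; exact Nat.find_spec hex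
      have hi₀pos : i₀ ≠ 0 := by
        intro h0
        rw [h0, pow_zero, pow_one] at hi₀spec
        exact hz₂ (hi₀spec z₂ hz₂Z)
      obtain ⟨i₁, hi₁⟩ : ∃ i₁, i₀ = i₁ + 1 := Nat.exists_eq_succ_of_ne_zero hi₀pos
      have hmin : ¬ ∀ z ∈ Z, y ^ 3 ^ i₁ * z = z * y ^ 3 ^ i₁ :=
        Nat.find_min hex (m := i₁) (by rw [← hi₀]; omega)
      obtain ⟨y₂, hy₂⟩ : ∃ y₂ : H, y₂ = y ^ 3 ^ i₁ := ⟨_, rfl⟩
      obtain ⟨z₃, hz₃Z, hz₃⟩ : ∃ z ∈ Z, y₂ * z ≠ z * y₂ := by
        by_contra hno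
        apply hmin
        intro z hz
        by_contra h'
        exact hno ⟨z, hz, by rw [hy₂]; exact h'⟩
      have hy₂3 : ∀ z ∈ Z, y₂ ^ 3 * z = z * y₂ ^ 3 := by
        intro z hz
        have h1 := hi₀spec z hz
        rw [hi₁, pow_succ, pow_mul] at h1
        rw [hy₂]; exact h1
      have hay₂ : a * y₂ * a⁻¹ = y₂⁻¹ := by
        rw [hy₂]
        have h1 : a * y ^ 3 ^ i₁ * a⁻¹ = (a * y * a⁻¹) ^ 3 ^ i₁ := by rw [conj_pow]
        rw [h1, hay, inv_pow]
      have hy₂pow : y₂ ^ 3 ^ j = 1 := by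
        rw [hy₂, ← pow_mul, mul_comm, pow_mul, hy3, one_pow]
      obtain ⟨b, hb⟩ : ∃ b : H, b = a * a := ⟨_, rfl⟩
      have hbT : b ∈ T := by rw [hb]; exact haT
      have hby₂ : b * y₂ = y₂ * b := by
        have h1 : a * (a * y₂ * a⁻¹) * a⁻¹ = y₂ := by
          rw [hay₂]
          have h2 : a * y₂⁻¹ * a⁻¹ = (a * y₂ * a⁻¹)⁻¹ := by group
          rw [h2, hay₂, inv_inv]
        calc b * y₂ = a * (a * y₂ * a⁻¹) * a⁻¹ * (a * a) := by rw [hb]; group
          _ = y₂ * b := by rw [h1, hb]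
      obtain ⟨C₂, hC₂⟩ : ∃ C₂ : Subgroup H, C₂ = Subgroup.centralizer ({b} : Set H) := ⟨_, rfl⟩
      have hmemC : ∀ x : H, x ∈ C₂ ↔ b * x = x * b := by
        intro x
        rw [hC₂, Subgroup.mem_centralizer_iff]
        constructor
        · intro h; exact h b (Set.mem_singleton b)
        · intro h g hg
          rw [Set.mem_singleton_iff] at hg
          rw [hg]; exact h
      have haC : a ∈ C₂ := by rw [hmemC, hb]; group
      have hy₂C : y₂ ∈ C₂ := (hmemC y₂).mpr hby₂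
      have hZC : ∀ z ∈ Z, z ∈ C₂ := by
        intro z hz
        rw [hmemC]
        exact (((hZ z).mp hz).2.2 b hbT).symm
      obtain ⟨W, hW⟩ : ∃ W : Subgroup ↥C₂, W = (Subgroup.zpowers b).subgroupOf C₂ := ⟨_, rfl⟩
      have hWcomm : ∀ w ∈ W, ∀ g : H, b * g = g * b → g * (w : H) = (w : H) * g := by
        intro w hw g hg
        have hw' : (w : H) ∈ Subgroup.zpowers b := by
          rw [hW] at hw; exact Subgroup.mem_subgroupOf.mp hw
        obtain ⟨i, hi⟩ := Subgroup.mem_zpowers_iff.mp hw'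
        rw [← hi]
        exact (Commute.zpow_right (show Commute g b from hg.symm) i).eq
      haveI hWn : W.Normal := by
        constructor
        intro w hw g
        have hcomm := hWcomm w hw (g : H) ((hmemC _).mp g.2)
        have h1 : g * w * g⁻¹ = w := by
          apply Subtype.ext
          rw [Subgroup.coe_mul, Subgroup.coe_mul, Subgroup.coe_inv, hcomm]; group
        rw [h1]; exact hw
      obtain ⟨q₂, hq₂⟩ : ∃ q₂ : ↥C₂ →* ↥C₂ ⧸ W, q₂ = QuotientGroup.mk' W := ⟨_, rfl⟩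
      have hq₂s : Function.Surjective q₂ := by rw [hq₂]; exact QuotientGroup.mk'_surjective W
      have hq₂ker : ∀ x, q₂ x = 1 ↔ x ∈ W := by
        intro x; rw [hq₂]; exact QuotientGroup.eq_one_iff x
      obtain ⟨Vb, hVb⟩ : ∃ Vb : Subgroup (↥C₂ ⧸ W), Vb = (Z.subgroupOf C₂).map q₂ := ⟨_, rfl⟩
      have hVbmem : ∀ v ∈ Vb, ∃ x : ↥C₂, (x : H) ∈ Z ∧ q₂ x = v := by
        intro v hv
        rw [hVb] at hv
        obtain ⟨x, hx, rfl⟩ := Subgroup.mem_map.mp hv
        exact ⟨x, Subgroup.mem_subgroupOf.mp hx, rfl⟩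
      have hVbof : ∀ x : ↥C₂, (x : H) ∈ Z → q₂ x ∈ Vb := by
        intro x hx
        rw [hVb]
        exact Subgroup.mem_map_of_mem q₂ (Subgroup.mem_subgroupOf.mpr hx)
      apply s4c_inv_sub C₂
      apply s4c_inv_surj q₂ hq₂s
      refine Cfsg.Agent.Helper5.S4Sec.s4_of_config Vb ?_ (q₂ ⟨a, haC⟩) (q₂ ⟨y₂, hy₂C⟩)
        ?_ ?_ ?_ ?_ ?_ ?_ ?_
      · -- elementary abelian
        intro v hv
        obtain ⟨x, hx, rfl⟩ := hVbmem v hv
        rw [← map_mul]
        have h1 : x * x = 1 := Subtype.ext (by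
          rw [Subgroup.coe_mul, Subgroup.coe_one]; exact ((hZ _).mp hx).2.1)
        rw [h1, map_one]
      · intro v hv
        obtain ⟨x, hx, rfl⟩ := hVbmem v hv
        rw [← map_mul, ← map_inv, ← map_mul]
        apply hVbof
        show a * (x : H) * a⁻¹ ∈ Z
        exact hZn.conj_mem _ hx a
      · intro v hv
        obtain ⟨x, hx, rfl⟩ := hVbmem v hv
        rw [← map_mul, ← map_inv, ← map_mul]
        apply hVbof
        show y₂ * (x : H) * y₂⁻¹ ∈ Z
        exact hZn.conj_mem _ hx y₂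
      · rw [← map_mul, hq₂ker, hW, Subgroup.mem_subgroupOf]
        show a * a ∈ Subgroup.zpowers b
        rw [← hb]; exact Subgroup.mem_zpowers b
      · rw [← map_mul, ← map_inv, ← map_mul, ← map_inv]
        congr 1
        exact Subtype.ext hay₂
      · have h1 : (q₂ ⟨y₂, hy₂C⟩) ^ 3 ^ j = 1 := by
          rw [← map_pow]
          have h2 : (⟨y₂, hy₂C⟩ : ↥C₂) ^ 3 ^ j = 1 := Subtype.ext (by
            rw [Subgroup.coe_pow, Subgroup.coe_one]; exact hy₂pow)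
          rw [h2, map_one]
        obtain ⟨l, -, hl⟩ := (Nat.dvd_prime_pow Nat.prime_three).mp (orderOf_dvd_of_pow_eq_one h1)
        rw [hl]; exact Odd.pow (by decide)
      · intro v hv
        obtain ⟨x, hx, rfl⟩ := hVbmem v hv
        rw [← map_pow, ← map_mul, ← map_mul]
        congr 1
        apply Subtype.ext
        rw [Subgroup.coe_mul, Subgroup.coe_mul, Subgroup.coe_pow]
        exact hy₂3 _ hx
      · refine ⟨q₂ ⟨z₃, hZC z₃ hz₃Z⟩, hVbof _ hz₃Z, ?_⟩
        intro hcomm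
        apply hz₃
        obtain ⟨c, hc⟩ : ∃ c : H, c = y₂ * z₃ * y₂⁻¹ * z₃⁻¹ := ⟨_, rfl⟩
        have hcC : c ∈ C₂ := by
          rw [hc]
          exact C₂.mul_mem (C₂.mul_mem (C₂.mul_mem hy₂C (hZC z₃ hz₃Z)) (C₂.inv_mem hy₂C))
            (C₂.inv_mem (hZC z₃ hz₃Z))
        have hcW : (⟨c, hcC⟩ : ↥C₂) ∈ W := by
          rw [← hq₂ker]
          have h1 : (⟨c, hcC⟩ : ↥C₂) = ⟨y₂, hy₂C⟩ * ⟨z₃, hZC z₃ hz₃Z⟩ * ⟨y₂, hy₂C⟩⁻¹ *
              ⟨z₃, hZC z₃ hz₃Z⟩⁻¹ := Subtype.ext (by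
            rw [Subgroup.coe_mul, Subgroup.coe_mul, Subgroup.coe_mul, Subgroup.coe_inv,
              Subgroup.coe_inv]; exact hc)
          rw [h1, map_mul, map_mul, map_mul, map_inv, map_inv, hcomm]; group
        have hcZ : c ∈ Z := by
          rw [hc]
          exact Z.mul_mem (hZn.conj_mem _ hz₃Z y₂) (Z.inv_mem hz₃Z)
        have hyc : y₂ * c = c * y₂ := hWcomm ⟨c, hcC⟩ hcW y₂ hby₂
        have hc1 : c = 1 :=
          s4c_stab y₂ z₃ c (3 ^ j) h3odd hy₂pow ((hZ c).mp hcZ).2.1 hyc (by rw [hc]; group)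
        calc y₂ * z₃ = (y₂ * z₃ * y₂⁻¹ * z₃⁻¹) * z₃ * y₂ := by group
          _ = z₃ * y₂ := by rw [← hc, hc1, one_mul]

/-- an element normalizing two subgroups normalizes their join -/
theorem s4c_norm_sup {G : Type*} [Group G] (A B : Subgroup G) (g : G)
    (hA : g ∈ Subgroup.normalizer (A : Set G)) (hB : g ∈ Subgroup.normalizer (B : Set G)) :
    g ∈ Subgroup.normalizer ((A ⊔ B : Subgroup G) : Set G) := by
  have h1 : A ⊔ B ≤ (A ⊔ B).comap (MulAut.conj g).toMonoidHom := by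
    apply sup_le
    · intro x hx
      rw [Subgroup.mem_comap]
      show g * x * g⁻¹ ∈ A ⊔ B
      exact (le_sup_left : A ≤ A ⊔ B) ((Subgroup.mem_normalizer_iff.mp hA x).mp hx)
    · intro x hx
      rw [Subgroup.mem_comap]
      show g * x * g⁻¹ ∈ A ⊔ B
      exact (le_sup_right : B ≤ A ⊔ B) ((Subgroup.mem_normalizer_iff.mp hB x).mp hx)
  have h2 : A ⊔ B ≤ (A ⊔ B).comap (MulAut.conj g⁻¹).toMonoidHom := by
    apply sup_le
    · intro x hx
      rw [Subgroup.mem_comap]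
      show g⁻¹ * x * g⁻¹⁻¹ ∈ A ⊔ B
      exact (le_sup_left : A ≤ A ⊔ B)
        ((Subgroup.mem_normalizer_iff.mp (Subgroup.inv_mem _ hA) x).mp hx)
    · intro x hx
      rw [Subgroup.mem_comap]
      show g⁻¹ * x * g⁻¹⁻¹ ∈ A ⊔ B
      exact (le_sup_right : B ≤ A ⊔ B)
        ((Subgroup.mem_normalizer_iff.mp (Subgroup.inv_mem _ hB) x).mp hx)
  rw [Subgroup.mem_normalizer_iff]
  intro x
  constructor
  · intro hx
    exact h1 hx
  · intro hx
    have h3 : g⁻¹ * (g * x * g⁻¹) * g⁻¹⁻¹ ∈ A ⊔ B := h2 hx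
    have h4 : g⁻¹ * (g * x * g⁻¹) * g⁻¹⁻¹ = x := by group
    rwa [h4] at h3

/-- the local configuration gives an `S₄`-section -/
theorem s4c_local {G : Type u} [Group G] [Finite G] (T : Subgroup G) (hT : IsPGroup 2 T)
    (a y : G) (haN : a ∈ Subgroup.normalizer (T : Set G))
    (hyN : y ∈ Subgroup.normalizer (T : Set G))
    (k j : ℕ) (ha2 : a ^ 2 ^ k = 1) (hy3 : y ^ 3 ^ j = 1) (hay : a * y * a⁻¹ = y⁻¹)
    (hyT : ∃ t ∈ T, y * t ≠ t * y) : Cfsg.Involves (Equiv.Perm (Fin 4)) G := by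
  classical
  haveI : Fact (Nat.Prime 2) := ⟨Nat.prime_two⟩
  obtain ⟨b, hb⟩ : ∃ b : G, b = a * a := ⟨_, rfl⟩
  have hbk : b ^ 2 ^ k = 1 := by
    rw [hb, ← pow_two, ← pow_mul, mul_comm, pow_mul, ha2, one_pow]
  obtain ⟨B, hB⟩ : ∃ B : Subgroup G, B = Subgroup.zpowers b := ⟨_, rfl⟩
  have hBp : IsPGroup 2 B := by
    rw [hB]
    rintro ⟨g, hg⟩
    obtain ⟨i, rfl⟩ := Subgroup.mem_zpowers_iff.mp hg
    refine ⟨k, Subtype.ext ?_⟩
    show (b ^ i) ^ 2 ^ k = 1
    rw [← zpow_natCast (b ^ i), ← zpow_mul, mul_comm, zpow_mul, zpow_natCast, hbk, one_zpow]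
  have hbN : b ∈ Subgroup.normalizer (T : Set G) := by
    rw [hb]; exact Subgroup.mul_mem _ haN haN
  have hBT : B ≤ Subgroup.normalizer (T : Set G) := by
    rw [hB]; exact Subgroup.zpowers_le.mpr hbN
  obtain ⟨T₁, hT₁⟩ : ∃ T₁ : Subgroup G, T₁ = T ⊔ B := ⟨_, rfl⟩
  have hT₁p : IsPGroup 2 T₁ := by
    rw [hT₁]; exact IsPGroup.to_sup_of_normal_left' hT hBp hBT
  have hby : b * y = y * b := by
    have h1 : a * (a * y * a⁻¹) * a⁻¹ = y := by
      rw [hay]
      have h2 : a * y⁻¹ * a⁻¹ = (a * y * a⁻¹)⁻¹ := by group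
      rw [h2, hay, inv_inv]
    calc b * y = a * (a * y * a⁻¹) * a⁻¹ * (a * a) := by rw [hb]; group
      _ = y * b := by rw [h1, hb]
  have hnormB : ∀ g : G, b * g = g * b → g ∈ Subgroup.normalizer (B : Set G) := by
    intro g hg
    rw [Subgroup.mem_normalizer_iff]
    intro x
    have hkey : ∀ x ∈ B, g * x * g⁻¹ = x := by
      intro x hx
      rw [hB] at hx
      obtain ⟨i, rfl⟩ := Subgroup.mem_zpowers_iff.mp hx
      have h1 : g * b ^ i = b ^ i * g := (Commute.zpow_right (show Commute g b from hg.symm) i).eq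
      rw [h1]; group
    constructor
    · intro hx; rw [hkey x hx]; exact hx
    · intro hx
      have h1 := hkey _ hx
      have h2 : g * x * g⁻¹ = x := by
        have h3 : g⁻¹ * (g * (g * x * g⁻¹) * g⁻¹) * g = g⁻¹ * (g * x * g⁻¹) * g := by rw [h1]
        have e1 : g⁻¹ * (g * (g * x * g⁻¹) * g⁻¹) * g = g * x * g⁻¹ := by group
        have e2 : g⁻¹ * (g * x * g⁻¹) * g = x := by group
        rw [e1, e2] at h3
        exact h3
      rw [← h2]; exact hx
  have haN₁ : a ∈ Subgroup.normalizer (T₁ : Set G) := by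
    rw [hT₁]; exact s4c_norm_sup T B a haN (hnormB a (by rw [hb]; group))
  have hyN₁ : y ∈ Subgroup.normalizer (T₁ : Set G) := by
    rw [hT₁]; exact s4c_norm_sup T B y hyN (hnormB y hby)
  obtain ⟨t₀, ht₀T, ht₀⟩ := hyT
  have hT₁N : T₁ ≤ Subgroup.normalizer (T₁ : Set G) := Subgroup.le_normalizer
  have ht₀T₁ : t₀ ∈ T₁ := by rw [hT₁]; exact (le_sup_left : T ≤ T ⊔ B) ht₀T
  have hbT₁ : b ∈ T₁ := by
    rw [hT₁, hB]; exact (le_sup_right : Subgroup.zpowers b ≤ T ⊔ Subgroup.zpowers b)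
      (Subgroup.mem_zpowers b)
  apply s4c_inv_sub (Subgroup.normalizer (T₁ : Set G))
  refine s4c_core (Nat.card ↥(T₁.subgroupOf (Subgroup.normalizer (T₁ : Set G))))
    ↥(Subgroup.normalizer (T₁ : Set G)) (T₁.subgroupOf (Subgroup.normalizer (T₁ : Set G)))
    le_rfl hT₁p.comap_subtype ⟨a, haN₁⟩ ⟨y, hyN₁⟩ j ?_ ?_ ?_ ?_
  · rw [Subgroup.mem_subgroupOf]
    show a * a ∈ T₁
    rw [← hb]; exact hbT₁
  · exact Subtype.ext (by rw [Subgroup.coe_pow, Subgroup.coe_one]; exact hy3)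
  · exact Subtype.ext hay
  · refine ⟨⟨t₀, hT₁N ht₀T₁⟩, Subgroup.mem_subgroupOf.mpr ht₀T₁, ?_⟩
    intro h
    exact ht₀ (congrArg Subtype.val h)

/-- the converse direction -/
theorem s4c_backward {G : Type u} [Group G] [Finite G] (T : Subgroup G) (hT : IsPGroup 2 ↥T)
    (h : Cfsg.Involves (Equiv.Perm (Fin 3)) (↥(Subgroup.normalizer (T : Set G)) ⧸
        (Subgroup.centralizer (T : Set G)).subgroupOf (Subgroup.normalizer (T : Set G)))) :
    Cfsg.Involves (Equiv.Perm (Fin 4)) G := by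
  classical
  obtain ⟨K', R', hn', ⟨e'⟩⟩ := h
  haveI := hn'
  obtain ⟨p, hp⟩ : ∃ p : ↥(Subgroup.normalizer (T : Set G)) →*
      (↥(Subgroup.normalizer (T : Set G)) ⧸
        (Subgroup.centralizer (T : Set G)).subgroupOf (Subgroup.normalizer (T : Set G))),
      p = QuotientGroup.mk' _ := ⟨_, rfl⟩
  have hps : Function.Surjective p := by rw [hp]; exact QuotientGroup.mk'_surjective _
  have hpc : ∀ w : ↥(Subgroup.normalizer (T : Set G)),
      (w : G) ∈ Subgroup.centralizer (T : Set G) → p w = 1 := by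
    intro w hw
    rw [hp]; exact (QuotientGroup.eq_one_iff _).mpr (Subgroup.mem_subgroupOf.mpr hw)
  obtain ⟨χ, hχ⟩ : ∃ χ : ↥(K'.comap p) →* Equiv.Perm (Fin 3),
      χ = (e'.toMonoidHom.comp (QuotientGroup.mk' (R'.subgroupOf K'))).comp
        (p.subgroupComap K') := ⟨_, rfl⟩
  have hχs : Function.Surjective χ := by
    rw [hχ]
    exact (e'.surjective.comp (QuotientGroup.mk'_surjective _)).comp
      (p.subgroupComap_surjective_of_surjective K' hps)
  have hχc : ∀ x : ↥(K'.comap p),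
      (((x : ↥(Subgroup.normalizer (T : Set G))) : G) ∈ Subgroup.centralizer (T : Set G)) →
      χ x = 1 := by
    intro x hx
    have h1 : p (x : ↥(Subgroup.normalizer (T : Set G))) = 1 := hpc _ hx
    have h2 : p.subgroupComap K' x = 1 := Subtype.ext h1
    rw [hχ, MonoidHom.comp_apply, h2, map_one]
  obtain ⟨a, y, ⟨k, ha2⟩, ⟨j, hy3⟩, hay, hyχ⟩ := s4c_elems χ hχs
  refine s4c_local T hT (((a : ↥(Subgroup.normalizer (T : Set G))) : G))
    (((y : ↥(Subgroup.normalizer (T : Set G))) : G))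
    (a : ↥(Subgroup.normalizer (T : Set G))).2 (y : ↥(Subgroup.normalizer (T : Set G))).2
    k j ?_ ?_ ?_ ?_
  · have h1 := congrArg (fun u : ↥(K'.comap p) =>
      ((u : ↥(Subgroup.normalizer (T : Set G))) : G)) ha2
    simpa using h1
  · have h1 := congrArg (fun u : ↥(K'.comap p) =>
      ((u : ↥(Subgroup.normalizer (T : Set G))) : G)) hy3
    simpa using h1
  · have h1 := congrArg (fun u : ↥(K'.comap p) =>
      ((u : ↥(Subgroup.normalizer (T : Set G))) : G)) hay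
    simpa using h1
  · by_contra hno
    apply hyχ
    apply hχc
    rw [Subgroup.mem_centralizer_iff]
    intro t ht
    by_contra h'
    exact hno ⟨t, ht, fun h'' => h' h''.symm⟩

end Cfsg.Agent.Helper18
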