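import Mathlib
import Cfsg.Prelude.Def_SylowChains
import Cfsg.Agent.Helper17.Basic

set_option autoImplicit false

namespace Cfsg.Agent.Helper18

open Cfsg Relation
open Cfsg.Agent.Helper17 (cj mem_cj conj_mem_cj cj_mul cj_inv_cj cj_cj_inv cj_mono cj_inf card_cj
  normalizer_cj sylow_conj exists_sylow_cj isPGroup_cj)

/-! ### Chains as reflexive-transitive closures -/

/-- One link of a chain controlling Sylow intersections, keeping `D`. -/
def SLink {G : Type*} [Group G] (p : ℕ) (𝓕 : Set (Subgroup G)) (D : Subgroup G)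
    (S₀ S₁ : Sylow p G) : Prop :=
  ∃ (X : Subgroup G) (x : G), X ∈ sylowMembers p 𝓕 (S₀ : Subgroup G) ∧
    X ∈ sylowMembers p 𝓕 (S₁ : Subgroup G) ∧ x ∈ X ∧
    subgroupConjRight x (S₁ : Subgroup G) = (S₀ : Subgroup G) ∧ D ≤ (S₁ : Subgroup G) ⊓ X

theorem rtg_of_chain {G : Type*} [Group G] {p : ℕ} {𝓕 : Set (Subgroup G)} {D : Subgroup G}
    (n : ℕ) (c : Fin (n + 1) → Sylow p G) (X : Fin n → Subgroup G) (x : Fin n → G)
    (h : ∀ i : Fin n, X i ∈ sylowMembers p 𝓕 (c i.castSucc : Subgroup G) ∧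
        X i ∈ sylowMembers p 𝓕 (c i.succ : Subgroup G) ∧ x i ∈ X i ∧
        subgroupConjRight (x i) (c i.succ : Subgroup G) = (c i.castSucc : Subgroup G) ∧
        D ≤ (c i.succ : Subgroup G) ⊓ X i) :
    ReflTransGen (SLink p 𝓕 D) (c 0) (c (Fin.last n)) := by
  have key : ∀ (k : ℕ) (hk : k < n + 1), ReflTransGen (SLink p 𝓕 D) (c 0) (c ⟨k, hk⟩) := by
    intro k
    induction k with
    | zero => intro hk; exact ReflTransGen.refl
    | succ k ih =>
      intro hk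
      have hk' : k < n := by omega
      have h1 := h ⟨k, hk'⟩
      exact ReflTransGen.tail (ih (by omega)) ⟨X ⟨k, hk'⟩, x ⟨k, hk'⟩, h1⟩
  exact key n (by omega)

theorem chain_of_rtg {G : Type*} [Group G] {p : ℕ} {𝓕 : Set (Subgroup G)} {D : Subgroup G}
    {S T : Sylow p G} (h : ReflTransGen (SLink p 𝓕 D) S T) :
    ∃ (n : ℕ) (c : Fin (n + 1) → Sylow p G) (X : Fin n → Subgroup G) (x : Fin n → G),
      c 0 = S ∧ c (Fin.last n) = T ∧
      ∀ i : Fin n, X i ∈ sylowMembers p 𝓕 (c i.castSucc : Subgroup G) ∧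
        X i ∈ sylowMembers p 𝓕 (c i.succ : Subgroup G) ∧ x i ∈ X i ∧
        subgroupConjRight (x i) (c i.succ : Subgroup G) = (c i.castSucc : Subgroup G) ∧
        D ≤ (c i.succ : Subgroup G) ⊓ X i := by
  induction h with
  | refl => exact ⟨0, fun _ => S, Fin.elim0, Fin.elim0, rfl, rfl, fun i => i.elim0⟩
  | @tail B C _ hbc ih =>
    obtain ⟨n, c, X, x, h0, hn, hst⟩ := ih
    obtain ⟨X₀, x₀, hl⟩ := hbc
    refine ⟨n + 1, Fin.snoc (α := fun _ => Sylow p G) c C,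
      Fin.snoc (α := fun _ => Subgroup G) X X₀, Fin.snoc (α := fun _ => G) x x₀, ?_, ?_, ?_⟩
    · rw [← Fin.castSucc_zero, Fin.snoc_castSucc]
      exact h0
    · exact Fin.snoc_last _ _
    · intro i
      refine Fin.lastCases ?_ ?_ i
      · rw [Fin.snoc_castSucc, Fin.succ_last, Fin.snoc_last, Fin.snoc_last, Fin.snoc_last, hn]
        exact hl
      · intro j
        rw [Fin.succ_castSucc, Fin.snoc_castSucc, Fin.snoc_castSucc, Fin.snoc_castSucc,
          Fin.snoc_castSucc]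
        exact hst j

theorem controls_iff_rtg {G : Type*} [Group G] (p : ℕ) (𝓕 : Set (Subgroup G)) :
    ControlsSylowIntersections p 𝓕 ↔ ∀ S T : Sylow p G, S ≠ T →
      (S : Subgroup G) ⊓ (T : Subgroup G) ≠ ⊥ →
      ReflTransGen (SLink p 𝓕 ((S : Subgroup G) ⊓ (T : Subgroup G))) S T := by
  constructor
  · intro h S T hne hD
    obtain ⟨n, c, X, x, h0, hn, hst⟩ := h S T hne hD
    have := rtg_of_chain n c X x hst
    rw [h0, hn] at this
    exact this
  · intro h S T hne hD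
    exact chain_of_rtg (h S T hne hD)

/-! ### Sylow subgroups of a subgroup, in the ambient group -/

/-- `Q` is a Sylow `p`-subgroup of `M`, both as subgroups of the ambient group. -/
def SylIn {G : Type*} [Group G] (p : ℕ) (M Q : Subgroup G) : Prop :=
  ∃ P : Sylow p ↥M, (P : Subgroup ↥M).map M.subtype = Q

theorem SylIn.le {G : Type*} [Group G] {p : ℕ} {M Q : Subgroup G} (h : SylIn p M Q) : Q ≤ M := by
  obtain ⟨P, rfl⟩ := h
  exact Subgroup.map_subtype_le _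

theorem SylIn.isPGroup {G : Type*} [Group G] {p : ℕ} {M Q : Subgroup G} (h : SylIn p M Q) :
    IsPGroup p Q := by
  obtain ⟨P, rfl⟩ := h
  exact P.isPGroup'.map _

theorem SylIn.card {G : Type*} [Group G] [Finite G] {p : ℕ} [Fact p.Prime] {M Q : Subgroup G}
    (h : SylIn p M Q) : Nat.card Q = p ^ (Nat.card M).factorization p := by
  obtain ⟨P, rfl⟩ := h
  rw [Subgroup.card_map_of_injective M.subtype_injective]
  exact P.card_eq_multiplicity

theorem sylIn_of_card {G : Type*} [Group G] [Finite G] {p : ℕ} [Fact p.Prime] {M Q : Subgroup G}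
    (hQM : Q ≤ M) (hc : Nat.card Q = p ^ (Nat.card M).factorization p) : SylIn p M Q := by
  have hc' : Nat.card (Q.subgroupOf M) = p ^ (Nat.card M).factorization p := by
    rw [← hc, ← Subgroup.card_map_of_injective M.subtype_injective,
      Subgroup.map_subgroupOf_eq_of_le hQM]
  refine ⟨Sylow.ofCard (Q.subgroupOf M) hc', ?_⟩
  rw [Sylow.coe_ofCard, Subgroup.map_subgroupOf_eq_of_le hQM]

theorem sylIn_of_sylow {G : Type*} [Group G] {p : ℕ} (S : Sylow p G) {M : Subgroup G}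
    (h : (S : Subgroup G) ≤ M) : SylIn p M (S : Subgroup G) :=
  ⟨S.subtype h, by rw [Sylow.coe_subtype, Subgroup.map_subgroupOf_eq_of_le h]⟩

theorem SylIn.exists_sylow {G : Type*} [Group G] [Finite G] {p : ℕ} [Fact p.Prime]
    {M Q : Subgroup G} (h : SylIn p M Q) (S : Sylow p G) (hS : (S : Subgroup G) ≤ M) :
    ∃ S' : Sylow p G, (S' : Subgroup G) = Q := by
  have h1 := h.card
  have h2 := (sylIn_of_sylow S hS).card
  have h3 : Nat.card Q = p ^ (Nat.card G).factorization p := by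
    rw [h1, ← h2]; exact S.card_eq_multiplicity
  exact ⟨Sylow.ofCard Q h3, Sylow.coe_ofCard Q h3⟩

theorem sylIn_top_iff {G : Type*} [Group G] [Finite G] {p : ℕ} [Fact p.Prime] (Q : Subgroup G) :
    SylIn p ⊤ Q ↔ ∃ S : Sylow p G, (S : Subgroup G) = Q := by
  constructor
  · intro h
    obtain ⟨S⟩ : Nonempty (Sylow p G) := inferInstance
    exact h.exists_sylow S le_top
  · rintro ⟨S, rfl⟩
    exact sylIn_of_sylow S le_top

theorem map_subtype_cj {G : Type*} [Group G] {M : Subgroup G} (g : ↥M) (P : Subgroup ↥M) :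
    (cj g P).map M.subtype = cj (g : G) (P.map M.subtype) := by
  unfold cj
  rw [Subgroup.map_map, Subgroup.map_map]
  congr 1

theorem SylIn.conj {G : Type*} [Group G] [Finite G] {p : ℕ} [Fact p.Prime] {M Q Q' : Subgroup G}
    (h : SylIn p M Q) (h' : SylIn p M Q') : ∃ m ∈ M, Q' = cj m Q := by
  obtain ⟨P, rfl⟩ := h
  obtain ⟨P', rfl⟩ := h'
  obtain ⟨g, hg⟩ := sylow_conj P P'
  exact ⟨g, g.2, by rw [hg, map_subtype_cj]⟩

theorem SylIn.cj_mem {G : Type*} [Group G] [Finite G] {p : ℕ} [Fact p.Prime] {M Q : Subgroup G}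
    (h : SylIn p M Q) {m : G} (hm : m ∈ M) : SylIn p M (cj m Q) := by
  apply sylIn_of_card
  · intro y hy
    rw [mem_cj] at hy
    have e : y = m * (m⁻¹ * y * m) * m⁻¹ := by group
    rw [e]
    exact mul_mem (mul_mem hm (h.le hy)) (inv_mem hm)
  · rw [card_cj]; exact h.card

theorem SylIn.exists_ge {G : Type*} [Group G] [Finite G] {p : ℕ} [Fact p.Prime] {M R : Subgroup G}
    (hRM : R ≤ M) (hR : IsPGroup p R) : ∃ Q, SylIn p M Q ∧ R ≤ Q := by
  have h1 : IsPGroup p (R.subgroupOf M) := hR.comap_subtype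
  obtain ⟨P, hP⟩ := h1.exists_le_sylow
  refine ⟨(P : Subgroup ↥M).map M.subtype, ⟨P, rfl⟩, ?_⟩
  rw [← Subgroup.map_subgroupOf_eq_of_le hRM]
  exact Subgroup.map_mono hP

/-- A `p`-subgroup of `M` containing a Sylow `p`-subgroup of `M` equals it. -/
theorem SylIn.eq_of_le {G : Type*} [Group G] [Finite G] {p : ℕ} [Fact p.Prime] {M Q R : Subgroup G}
    (h : SylIn p M Q) (hQR : Q ≤ R) (hRM : R ≤ M) (hR : IsPGroup p R) : R = Q := by
  obtain ⟨Q', hQ', hRQ'⟩ := SylIn.exists_ge hRM hR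
  have h1 : Q = Q' := Subgroup.eq_of_le_of_card_ge (hQR.trans hRQ') (by rw [h.card, hQ'.card])
  exact le_antisymm (h1 ▸ hRQ') hQR

/-! ### Regularity for a normalizer functor, in the ambient group -/

/-- One link inside `M` for the functor `f`, in ambient form. -/
def MStep {G : Type*} [Group G] (p : ℕ) (f : Subgroup G → Set (Subgroup G))
    (M D Q₀ Q₁ : Subgroup G) : Prop :=
  SylIn p M Q₀ ∧ SylIn p M Q₁ ∧ ∃ (F : Subgroup G) (x : G), (∃ P, SylIn p M P ∧ F ∈ f P) ∧ x ∈ M ∧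
    x ∈ Subgroup.normalizer (F : Set G) ∧ Q₀ ≤ Subgroup.normalizer (F : Set G) ∧
    Q₁ ≤ Subgroup.normalizer (F : Set G) ∧ subgroupConjRight x Q₁ = Q₀ ∧ D ≤ Q₁

theorem sylow_le_of_member {H : Type*} [Group H] [Finite H] {p : ℕ} [Fact p.Prime]
    (X' : Subgroup H) (P P₀ : Sylow p H) (hP : (P : Subgroup H) ≤ X')
    (h : ∃ P'' : Sylow p ↥X', (P'' : Subgroup ↥X').map X'.subtype = (P₀ : Subgroup H) ⊓ X') :
    (P₀ : Subgroup H) ≤ X' := by
  obtain ⟨P'', hP''⟩ := h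
  have h1 : Nat.card ((P₀ : Subgroup H) ⊓ X' : Subgroup H) = Nat.card (P'' : Subgroup ↥X') := by
    rw [← hP'', Subgroup.card_map_of_injective X'.subtype_injective]
  have h2 : Nat.card (P'' : Subgroup ↥X') =
      Nat.card ((P.subtype hP : Sylow p ↥X') : Subgroup ↥X') := by
    rw [Sylow.card_eq_multiplicity, Sylow.card_eq_multiplicity]
  have h3 : Nat.card ((P.subtype hP : Sylow p ↥X') : Subgroup ↥X') = Nat.card (P : Subgroup H) := by
    rw [Sylow.coe_subtype, ← Subgroup.card_map_of_injective X'.subtype_injective,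
      Subgroup.map_subgroupOf_eq_of_le hP]
  have h4 : Nat.card (P : Subgroup H) = Nat.card (P₀ : Subgroup H) := by
    rw [Sylow.card_eq_multiplicity, Sylow.card_eq_multiplicity]
  have h5 : (P₀ : Subgroup H) ⊓ X' = (P₀ : Subgroup H) :=
    Subgroup.eq_of_le_of_card_ge inf_le_left (by rw [h1, h2, h3, h4])
  rw [← h5]
  exact inf_le_right

theorem mstep_of_slink {G : Type*} [Group G] [Finite G] {p : ℕ} [Fact p.Prime]
    {f : Subgroup G → Set (Subgroup G)} (hf : IsNormalizerFunctor p f) (M : Subgroup G)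
    (D' : Subgroup ↥M) (P₀ P₁ : Sylow p ↥M)
    (h : SLink p ((fun X : Subgroup G => X.subgroupOf M) '' functorFamily p f M) D' P₀ P₁) :
    MStep p f M (D'.map M.subtype) ((P₀ : Subgroup ↥M).map M.subtype)
      ((P₁ : Subgroup ↥M).map M.subtype) := by
  obtain ⟨X', x, hX0, hX1, hx, hconj, hD⟩ := h
  obtain ⟨⟨X, ⟨P, F, hF, rfl⟩, rfl⟩, hS0⟩ := hX0
  have hS1 := hX1.2
  have hPp : IsPGroup p ((P : Subgroup ↥M).map M.subtype) := P.isPGroup'.map _
  have hfP := (hf _ hPp).1 F hF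
  have hPX : (P : Subgroup ↥M) ≤ (M ⊓ Subgroup.normalizer (F : Set G)).subgroupOf M := by
    intro y hy
    rw [Subgroup.mem_subgroupOf]
    exact Subgroup.mem_inf.mpr
      ⟨y.2, hfP.2 (Subgroup.le_normalizer (Subgroup.mem_map_of_mem M.subtype hy))⟩
  have h0 := sylow_le_of_member _ P P₀ hPX hS0
  have h1 := sylow_le_of_member _ P P₁ hPX hS1
  refine ⟨⟨P₀, rfl⟩, ⟨P₁, rfl⟩, F, (x : G), ⟨_, ⟨P, rfl⟩, hF⟩, x.2, ?_, ?_, ?_, ?_, ?_⟩
  · exact (Subgroup.mem_inf.mp (Subgroup.mem_subgroupOf.mp hx)).2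
  · rintro _ ⟨y, hy, rfl⟩
    exact (Subgroup.mem_inf.mp (Subgroup.mem_subgroupOf.mp (h0 hy))).2
  · rintro _ ⟨y, hy, rfl⟩
    exact (Subgroup.mem_inf.mp (Subgroup.mem_subgroupOf.mp (h1 hy))).2
  · rw [← hconj]
    exact (map_subtype_cj x⁻¹ _).symm
  · exact Subgroup.map_mono (hD.trans inf_le_left)

theorem regular_unpack {G : Type*} [Group G] [Finite G] {p : ℕ} [Fact p.Prime]
    {f : Subgroup G → Set (Subgroup G)} (hf : IsNormalizerFunctor p f) {M : Subgroup G}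
    (hr : IsFunctorRegular p f M) {Q Q' : Subgroup G} (hQ : SylIn p M Q) (hQ' : SylIn p M Q')
    (hne : Q ≠ Q') (hD : Q ⊓ Q' ≠ ⊥) : ReflTransGen (MStep p f M (Q ⊓ Q')) Q Q' := by
  obtain ⟨P, rfl⟩ := hQ
  obtain ⟨P', rfl⟩ := hQ'
  have hne' : P ≠ P' := by
    rintro rfl
    exact hne rfl
  have hinf : ((P : Subgroup ↥M) ⊓ (P' : Subgroup ↥M)).map M.subtype =
      (P : Subgroup ↥M).map M.subtype ⊓ (P' : Subgroup ↥M).map M.subtype :=
    Subgroup.map_inf _ _ _ M.subtype_injective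
  have hD' : (P : Subgroup ↥M) ⊓ (P' : Subgroup ↥M) ≠ ⊥ := by
    intro h0
    apply hD
    rw [← hinf, h0, Subgroup.map_bot]
  have h1 := (controls_iff_rtg p _).mp hr P P' hne' hD'
  rw [← hinf]
  exact ReflTransGen.lift (fun P : Sylow p ↥M => (P : Subgroup ↥M).map M.subtype)
    (fun P₀ P₁ h => mstep_of_slink hf M _ P₀ P₁ h) P P' h1

theorem slink_of_mstep {G : Type*} [Group G] [Finite G] {p : ℕ} [Fact p.Prime]
    {f : Subgroup G → Set (Subgroup G)} (M : Subgroup G) (D' : Subgroup ↥M) (P₀ P₁ : Sylow p ↥M)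
    (h : MStep p f M (D'.map M.subtype) ((P₀ : Subgroup ↥M).map M.subtype)
      ((P₁ : Subgroup ↥M).map M.subtype)) :
    SLink p ((fun X : Subgroup G => X.subgroupOf M) '' functorFamily p f M) D' P₀ P₁ := by
  obtain ⟨-, -, F, x, ⟨_, ⟨P, rfl⟩, hF⟩, hxM, hxF, h0, h1, hconj, hD⟩ := h
  have hmem : (M ⊓ Subgroup.normalizer (F : Set G)).subgroupOf M ∈
      (fun X : Subgroup G => X.subgroupOf M) '' functorFamily p f M :=
    ⟨_, ⟨P, F, hF, rfl⟩, rfl⟩
  have hle : ∀ P₂ : Sylow p ↥M,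
      (P₂ : Subgroup ↥M).map M.subtype ≤ Subgroup.normalizer (F : Set G) →
      (P₂ : Subgroup ↥M) ≤ (M ⊓ Subgroup.normalizer (F : Set G)).subgroupOf M := by
    intro P₂ h2 y hy
    rw [Subgroup.mem_subgroupOf]
    exact Subgroup.mem_inf.mpr ⟨y.2, h2 (Subgroup.mem_map_of_mem M.subtype hy)⟩
  have hsm : ∀ P₂ : Sylow p ↥M,
      (P₂ : Subgroup ↥M).map M.subtype ≤ Subgroup.normalizer (F : Set G) →
      (M ⊓ Subgroup.normalizer (F : Set G)).subgroupOf M ∈ sylowMembers p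
        ((fun X : Subgroup G => X.subgroupOf M) '' functorFamily p f M) (P₂ : Subgroup ↥M) := by
    intro P₂ h2
    refine ⟨hmem, P₂.subtype (hle P₂ h2), ?_⟩
    rw [Sylow.coe_subtype, Subgroup.map_subgroupOf_eq_of_le (hle P₂ h2),
      inf_eq_left.mpr (hle P₂ h2)]
  refine ⟨_, ⟨x, hxM⟩, hsm P₀ h0, hsm P₁ h1, ?_, ?_, ?_⟩
  · rw [Subgroup.mem_subgroupOf]
    exact Subgroup.mem_inf.mpr ⟨hxM, hxF⟩
  · apply Subgroup.map_injective M.subtype_injective
    rw [← hconj]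
    exact map_subtype_cj (⟨x, hxM⟩ : ↥M)⁻¹ _
  · have hD1 : D' ≤ (P₁ : Subgroup ↥M) :=
      (Subgroup.map_le_map_iff_of_injective M.subtype_injective).mp hD
    exact le_inf hD1 (hD1.trans (hle P₁ h1))

theorem regular_pack {G : Type*} [Group G] [Finite G] {p : ℕ} [Fact p.Prime]
    {f : Subgroup G → Set (Subgroup G)} {M : Subgroup G}
    (h : ∀ Q Q' : Subgroup G, SylIn p M Q → SylIn p M Q' → Q ≠ Q' → Q ⊓ Q' ≠ ⊥ →
      ReflTransGen (MStep p f M (Q ⊓ Q')) Q Q') :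
    IsFunctorRegular p f M := by
  unfold IsFunctorRegular
  rw [controls_iff_rtg]
  intro S T hne hD
  have hinf : ((S : Subgroup ↥M) ⊓ (T : Subgroup ↥M)).map M.subtype =
      (S : Subgroup ↥M).map M.subtype ⊓ (T : Subgroup ↥M).map M.subtype :=
    Subgroup.map_inf _ _ _ M.subtype_injective
  have h1 := h _ _ ⟨S, rfl⟩ ⟨T, rfl⟩ (by
    intro h0
    apply hne
    exact Sylow.ext (Subgroup.map_injective M.subtype_injective h0)) (by
    rw [← hinf]
    intro h0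
    apply hD
    exact (Subgroup.map_eq_bot_iff_of_injective _ M.subtype_injective).mp h0)
  rw [← hinf] at h1
  have key : ∀ Q'' : Subgroup G,
      ReflTransGen (MStep p f M (((S : Subgroup ↥M) ⊓ (T : Subgroup ↥M)).map M.subtype))
        ((S : Subgroup ↥M).map M.subtype) Q'' →
      ∀ T'' : Sylow p ↥M, (T'' : Subgroup ↥M).map M.subtype = Q'' →
        ReflTransGen (SLink p ((fun X : Subgroup G => X.subgroupOf M) '' functorFamily p f M)
          ((S : Subgroup ↥M) ⊓ (T : Subgroup ↥M))) S T'' := by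
    intro Q'' hQ''
    induction hQ'' with
    | refl =>
      intro T'' hT''
      have e : T'' = S := Sylow.ext (Subgroup.map_injective M.subtype_injective hT'')
      rw [e]
    | @tail B C _ hbc ih =>
      intro T'' hT''
      obtain ⟨PB, hPB⟩ := hbc.1
      refine ReflTransGen.tail (ih PB hPB) ?_
      apply slink_of_mstep
      rw [hPB, hT'']
      exact hbc
  exact key _ h1 T rfl

theorem MStep.mono {G : Type*} [Group G] {p : ℕ} {f : Subgroup G → Set (Subgroup G)}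
    {M D D' Q₀ Q₁ : Subgroup G} (hDD : D' ≤ D) (h : MStep p f M D Q₀ Q₁) :
    MStep p f M D' Q₀ Q₁ := by
  obtain ⟨h0, h1, F, x, hP, hxM, hxF, hQ0, hQ1, hconj, hD⟩ := h
  exact ⟨h0, h1, F, x, hP, hxM, hxF, hQ0, hQ1, hconj, hDD.trans hD⟩

theorem MStep.to_top {G : Type*} [Group G] [Finite G] {p : ℕ} [Fact p.Prime]
    {f : Subgroup G → Set (Subgroup G)} {M D Q₀ Q₁ : Subgroup G} (S : Sylow p G)
    (hS : (S : Subgroup G) ≤ M) (h : MStep p f M D Q₀ Q₁) : MStep p f ⊤ D Q₀ Q₁ := by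
  obtain ⟨h0, h1, F, x, ⟨P, hP, hF⟩, hxM, hxF, hQ0, hQ1, hconj, hD⟩ := h
  have top : ∀ Q, SylIn p M Q → SylIn p ⊤ Q := fun Q hQ =>
    (sylIn_top_iff Q).mpr (hQ.exists_sylow S hS)
  exact ⟨top _ h0, top _ h1, F, x, ⟨P, top _ hP, hF⟩, Subgroup.mem_top x, hxF, hQ0, hQ1, hconj, hD⟩

theorem MStep.conj {G : Type*} [Group G] [Finite G] {p : ℕ} [Fact p.Prime]
    {f : Subgroup G → Set (Subgroup G)} (hf : IsNormalizerFunctor p f) {D Q₀ Q₁ : Subgroup G}
    (g : G) (h : MStep p f ⊤ D Q₀ Q₁) : MStep p f ⊤ (cj g D) (cj g Q₀) (cj g Q₁) := by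
  obtain ⟨h0, h1, F, x, ⟨P, hP, hF⟩, hxM, hxF, hQ0, hQ1, hconj, hD⟩ := h
  have top : ∀ Q, SylIn p ⊤ Q → SylIn p ⊤ (cj g Q) := fun Q hQ =>
    hQ.cj_mem (Subgroup.mem_top g)
  refine ⟨top _ h0, top _ h1, cj g F, g * x * g⁻¹, ⟨cj g P, top _ hP, ?_⟩, Subgroup.mem_top _,
    ?_, ?_, ?_, ?_, cj_mono hD⟩
  · rw [(hf P hP.isPGroup).2 g]
    exact ⟨F, hF, rfl⟩
  · rw [normalizer_cj]
    exact conj_mem_cj hxF
  · rw [normalizer_cj]
    exact cj_mono hQ0
  · rw [normalizer_cj]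
    exact cj_mono hQ1
  · rw [← hconj]
    show cj (g * x * g⁻¹)⁻¹ (cj g Q₁) = cj g (cj x⁻¹ Q₁)
    rw [← cj_mul, ← cj_mul]
    congr 1
    group

end Cfsg.Agent.Helper18
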