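import Mathlib
import Cfsg.Agent.S0739

set_option autoImplicit false

namespace Cfsg.Agent.Helper18

open Cfsg Cfsg.Agent.Helper3

theorem eq_one_of_sq_of_odd {G : Type*} [Group G] (K : Subgroup G) (hK : Odd (Nat.card K))
    {x : G} (hx : x ∈ K) (h2 : x * x = 1) : x = 1 := by
  have h6 : orderOf x ∣ 2 := orderOf_dvd_of_pow_eq_one (by rw [pow_two]; exact h2)
  have h7 : Odd (orderOf x) := by
    have := orderOf_dvd_natCard (⟨x, hx⟩ : K)
    rw [Subgroup.orderOf_mk] at this
    exact Odd.of_dvd_nat hK this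
  have h8 : orderOf x = 1 := by
    rcases (Nat.dvd_prime Nat.prime_two).mp h6 with h | h
    · exact h
    · rw [h] at h7; exact absurd h7 (by decide)
  exact orderOf_eq_one_iff.mp h8

section
variable {G Ω : Type*} [Group G] [MulAction G Ω]

/-- In a Zassenhaus group the elements carrying a pair of distinct points to another such
pair form a coset of a two-point stabilizer. -/
theorem zass_card_map2 [Finite G] (Z : ZData G Ω) {a b : Ω} (hab : a ≠ b) {c d c' d' : Ω}
    (hcd : c ≠ d) (hcd' : c' ≠ d') :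
    Nat.card {g : G // g • c = c' ∧ g • d = d'} =
      Nat.card ↥(MulAction.stabilizer G a ⊓ MulAction.stabilizer G b) := by
  obtain ⟨g1, hg1c, hg1d⟩ := Z.two hab hcd
  obtain ⟨g2, hg2c, hg2d⟩ := Z.two hab hcd'
  apply Nat.card_congr
  refine ⟨fun g => ⟨g2⁻¹ * g.1 * g1, ?_⟩, fun h => ⟨g2 * h.1 * g1⁻¹, ?_⟩, ?_, ?_⟩
  · rw [Subgroup.mem_inf, MulAction.mem_stabilizer_iff, MulAction.mem_stabilizer_iff]
    constructor
    · rw [mul_smul, mul_smul, hg1c, g.2.1, inv_smul_eq_iff, hg2c]
    · rw [mul_smul, mul_smul, hg1d, g.2.2, inv_smul_eq_iff, hg2d]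
  · have h1 := Subgroup.mem_inf.mp h.2
    rw [MulAction.mem_stabilizer_iff, MulAction.mem_stabilizer_iff] at h1
    have hc : g1⁻¹ • c = a := by rw [inv_smul_eq_iff, hg1c]
    have hd : g1⁻¹ • d = b := by rw [inv_smul_eq_iff, hg1d]
    constructor
    · rw [mul_smul, mul_smul, hc, h1.1, hg2c]
    · rw [mul_smul, mul_smul, hd, h1.2, hg2d]
  · intro g; apply Subtype.ext; simp [mul_assoc]
  · intro h; apply Subtype.ext; simp [mul_assoc]

theorem zass_card_G [Finite G] [Fintype Ω] (Z : ZData G Ω) {a b : Ω} (hab : a ≠ b) :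
    Nat.card G = Fintype.card Ω * (Fintype.card Ω - 1) *
      Nat.card ↥(MulAction.stabilizer G a ⊓ MulAction.stabilizer G b) := by
  classical
  have : Fintype G := Fintype.ofFinite G
  rw [Nat.card_eq_fintype_card, ← Finset.card_univ (α := G)]
  rw [Finset.card_eq_sum_card_fiberwise (f := fun g : G => (g • a, g • b))
    (t := (Finset.univ : Finset Ω).offDiag)]
  · rw [Finset.sum_const_nat
      (m := Nat.card ↥(MulAction.stabilizer G a ⊓ MulAction.stabilizer G b))]
    · rw [Finset.offDiag_card, Finset.card_univ, Nat.mul_sub_one]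
    · intro p hp
      rw [Finset.mem_offDiag] at hp
      rw [← zass_card_map2 Z hab hab hp.2.2, Nat.card_eq_fintype_card, Fintype.card_subtype]
      apply congrArg Finset.card
      ext g
      simp [Prod.ext_iff]
  · intro g _
    simp only [Finset.coe_offDiag, Finset.coe_univ, Set.mem_offDiag, Set.mem_univ, true_and]
    exact fun h => hab (smul_left_cancel g h)

theorem zass_even_card [Finite G] (Z : ZData G Ω) {a b : Ω} (hab : a ≠ b) : 2 ∣ Nat.card G := by
  obtain ⟨s, hsa, hsb⟩ := Z.two hab hab.symm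
  have h2 : s * s ∈ MulAction.stabilizer G a := by
    rw [MulAction.mem_stabilizer_iff, mul_smul, hsa, hsb]
  have hodd : ¬ Odd (orderOf s) := by
    rintro ⟨k, hk⟩
    have h3 : s ^ (2 * k + 1) • a = b := by
      rw [pow_succ', pow_mul, pow_two, mul_smul]
      have h4 : (s * s) ^ k ∈ MulAction.stabilizer G a := Subgroup.pow_mem _ h2 k
      rw [MulAction.mem_stabilizer_iff] at h4
      rw [h4, hsa]
    rw [← hk, pow_orderOf_eq_one, one_smul] at h3
    exact hab h3
  have heven : Even (orderOf s) := Nat.not_odd_iff_even.mp hodd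
  exact (even_iff_two_dvd.mp heven).trans (orderOf_dvd_natCard s)

theorem zass_hnil [Finite G] [IsSimpleGroup G] (Z : ZData G Ω) {a b : Ω} (hab : a ≠ b)
    (K : Subgroup G) (hK : Odd (Nat.card K)) :
    ∀ q : ℕ, q.Prime → q ∣ Nat.card K →
      ¬ ∃ N : Subgroup G, N.Normal ∧ N.index = q ^ (Nat.card G).factorization q := by
  rintro q hq hqK ⟨N, hN, hNi⟩
  have hqG : q ∣ Nat.card G := hqK.trans (Subgroup.card_subgroup_dvd_card K)
  have hpos : 0 < (Nat.card G).factorization q :=
    hq.factorization_pos_of_dvd Nat.card_pos.ne' hqG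
  rcases hN.eq_bot_or_eq_top with h | h
  · rw [h, Subgroup.index_bot] at hNi
    have h2 := zass_even_card Z hab
    rw [hNi] at h2
    have h3 : 2 ∣ q := Nat.Prime.dvd_of_dvd_pow Nat.prime_two h2
    have h4 : q = 2 := ((Nat.prime_dvd_prime_iff_eq Nat.prime_two hq).mp h3).symm
    rw [h4] at hqK
    have h5 : Odd 2 := Odd.of_dvd_nat hK hqK
    exact absurd h5 (by decide)
  · rw [h, Subgroup.index_top] at hNi
    have h6 := Nat.one_lt_pow hpos.ne' hq.one_lt
    omega

end

section ZO
variable {G Ω : Type*} [Group G] [Finite G] [MulAction G Ω] [Fintype Ω] [IsSimpleGroup G]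
  (hZ : IsZassenhausGroup G Ω) {a b : Ω} (hab : a ≠ b)
  (hodd : Odd (Nat.card ↥(MulAction.stabilizer G a ⊓ MulAction.stabilizer G b)))
include hZ hab hodd

theorem zass_odd_pair {c d : Ω} (hcd : c ≠ d) :
    Odd (Nat.card ↥(MulAction.stabilizer G c ⊓ MulAction.stabilizer G d)) ∧
    ∀ s : G, s • c = d → s • d = c →
      ∀ h ∈ MulAction.stabilizer G c ⊓ MulAction.stabilizer G d, s * h * s⁻¹ = h⁻¹ := by
  have Z := zdata_of hZ
  have hc : Nat.card ↥(MulAction.stabilizer G c ⊓ MulAction.stabilizer G d) =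
      Nat.card ↥(MulAction.stabilizer G a ⊓ MulAction.stabilizer G b) := by
    rw [← zass_card_map2 Z hab hcd hcd]
    apply Nat.card_congr
    exact Equiv.subtypeEquivRight (fun g => by
      rw [Subgroup.mem_inf, MulAction.mem_stabilizer_iff, MulAction.mem_stabilizer_iff])
  have hodd' : Odd (Nat.card ↥(MulAction.stabilizer G c ⊓ MulAction.stabilizer G d)) := by
    rw [hc]; exact hodd
  exact ⟨hodd', (Cfsg.Agent.S0739.result hZ hcd hodd' (zass_hnil Z hab _ hodd')).2.2⟩

theorem zass_swap_sq {c d : Ω} (hcd : c ≠ d) {s : G} (h1 : s • c = d) (h2 : s • d = c) :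
    s * s = 1 := by
  obtain ⟨ho, hinv⟩ := zass_odd_pair hZ hab hodd hcd
  have hss : s * s ∈ MulAction.stabilizer G c ⊓ MulAction.stabilizer G d := by
    rw [Subgroup.mem_inf, MulAction.mem_stabilizer_iff, MulAction.mem_stabilizer_iff]
    constructor
    · rw [mul_smul, h1, h2]
    · rw [mul_smul, h2, h1]
  have h3 := hinv s h1 h2 (s * s) hss
  have h4 : s * (s * s) * s⁻¹ = s * s := by group
  rw [h4] at h3
  have h5 : (s * s) * (s * s) = 1 := by
    nth_rewrite 1 [h3]; exact inv_mul_cancel _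
  exact eq_one_of_sq_of_odd _ ho hss h5

theorem zass_key {c d : Ω} (hcd : c ≠ d) {x w : G}
    (hx : x ∈ MulAction.stabilizer G c ⊓ MulAction.stabilizer G d) (hx1 : x ≠ 1)
    (hw : w * w = 1) (hw1 : w ≠ 1) : w * x ≠ x * w := by
  intro hcomm
  have Z := zdata_of hZ
  obtain ⟨ho, hinv⟩ := zass_odd_pair hZ hab hodd hcd
  have hx' := Subgroup.mem_inf.mp hx
  rw [MulAction.mem_stabilizer_iff, MulAction.mem_stabilizer_iff] at hx'
  obtain ⟨hxc, hxd⟩ := hx'
  have hxwc : x • (w • c) = w • c := by rw [← mul_smul, ← hcomm, mul_smul, hxc]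
  have hxwd : x • (w • d) = w • d := by rw [← mul_smul, ← hcomm, mul_smul, hxd]
  have hfix : ∀ p : Ω, x • p = p → p = c ∨ p = d := by
    intro p hp
    by_contra hcon
    rw [not_or] at hcon
    exact hx1 (Z.three x c d p hcd (Ne.symm hcon.2) (Ne.symm hcon.1) hxc hxd hp)
  have hwcd : w • c ≠ w • d := fun h => hcd (smul_left_cancel w h)
  have hwE : w ∉ MulAction.stabilizer G c ⊓ MulAction.stabilizer G d :=
    fun h => hw1 (eq_one_of_sq_of_odd _ ho h hw)
  rcases hfix _ hxwc with h1 | h1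
  · rcases hfix _ hxwd with h2 | h2
    · exact hwcd (h1.trans h2.symm)
    · apply hwE
      rw [Subgroup.mem_inf, MulAction.mem_stabilizer_iff, MulAction.mem_stabilizer_iff]
      exact ⟨h1, h2⟩
  · rcases hfix _ hxwd with h2 | h2
    · have h3 := hinv w h1 h2 x hx
      rw [hcomm, mul_inv_cancel_right] at h3
      have h4 : x * x = 1 := by nth_rewrite 1 [h3]; exact inv_mul_cancel x
      exact hx1 (eq_one_of_sq_of_odd _ ho hx h4)
    · exact hwcd (h1.trans h2.symm)

theorem zass_invol_fix_unique {x : G} (hx : orderOf x = 2) {p p' : Ω} (hp : x • p = p)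
    (hp' : x • p' = p') : p = p' := by
  by_contra hne
  obtain ⟨ho, -⟩ := zass_odd_pair hZ hab hodd hne
  have hxx : x * x = 1 := by rw [← pow_two, ← hx, pow_orderOf_eq_one]
  have hx1 : x ≠ 1 := by intro h; rw [h, orderOf_one] at hx; omega
  have hxE : x ∈ MulAction.stabilizer G p ⊓ MulAction.stabilizer G p' := by
    rw [Subgroup.mem_inf, MulAction.mem_stabilizer_iff, MulAction.mem_stabilizer_iff]
    exact ⟨hp, hp'⟩
  exact hx1 (eq_one_of_sq_of_odd _ ho hxE hxx)

theorem zass_invol_moved {x : G} (hx : orderOf x = 2) :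
    Nat.card {c : Ω // x • c ≠ c} = Fintype.card Ω - Fintype.card Ω % 2 := by
  classical
  have hxx : x * x = 1 := by rw [← pow_two, ← hx, pow_orderOf_eq_one]
  rw [Nat.card_eq_fintype_card, Fintype.card_subtype]
  have hsum := Finset.card_filter_add_card_filter_not (s := (Finset.univ : Finset Ω))
    (fun c => x • c ≠ c)
  have hfix : (Finset.univ.filter (fun c : Ω => ¬ x • c ≠ c)).card ≤ 1 := by
    rw [Finset.card_le_one]
    intro p hp p' hp'
    simp only [Finset.mem_filter, Finset.mem_univ, true_and, not_not] at hp hp'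
    exact zass_invol_fix_unique hZ hab hodd hx hp hp'
  have heven : Even (Finset.univ.filter (fun c : Ω => x • c ≠ c)).card := by
    have h := Finset.sum_involution (s := Finset.univ.filter (fun c : Ω => x • c ≠ c))
      (f := fun _ => (1 : ZMod 2))
      (fun c _ => x • c) (fun c _ => by decide) (fun c hc _ => (Finset.mem_filter.mp hc).2)
      (fun c hc => by
        rw [Finset.mem_filter] at hc ⊢
        refine ⟨Finset.mem_univ _, ?_⟩
        rw [← mul_smul, hxx, one_smul]
        exact fun h => hc.2 h.symm)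
      (fun c _ => by rw [← mul_smul, hxx, one_smul])
    rw [Finset.sum_const, nsmul_eq_mul, mul_one] at h
    have h2 := (ZMod.natCast_eq_zero_iff _ 2).mp h
    exact even_iff_two_dvd.mpr h2
  rw [Finset.card_univ] at hsum
  obtain ⟨k, hk⟩ := heven
  omega

theorem zass_conj_invol {x y : G} (hx : orderOf x = 2) (hy : orderOf y = 2) : IsConj x y := by
  have Z := zdata_of hZ
  obtain ⟨ho, hinv⟩ := zass_odd_pair hZ hab hodd hab
  have hS : ∀ s s' : G, s • a = b → s • b = a → s' • a = b → s' • b = a → IsConj s s' := by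
    intro s s' hsa hsb hsa' hsb'
    have hss : s * s = 1 := zass_swap_sq hZ hab hodd hab hsa hsb
    have hsinv : s⁻¹ = s := inv_eq_of_mul_eq_one_left hss
    have hhE : s⁻¹ * s' ∈ MulAction.stabilizer G a ⊓ MulAction.stabilizer G b := by
      rw [Subgroup.mem_inf, MulAction.mem_stabilizer_iff, MulAction.mem_stabilizer_iff]
      constructor
      · rw [mul_smul, hsa', inv_smul_eq_iff, hsa]
      · rw [mul_smul, hsb', inv_smul_eq_iff, hsb]
    have hoh : Odd (orderOf (s⁻¹ * s')) := by
      have h1 := orderOf_dvd_natCard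
        (⟨_, hhE⟩ : ↥(MulAction.stabilizer G a ⊓ MulAction.stabilizer G b))
      rw [Subgroup.orderOf_mk] at h1
      exact Odd.of_dvd_nat ho h1
    obtain ⟨t, ht⟩ := hoh
    obtain ⟨m, hm⟩ : ∃ m, m = (s⁻¹ * s') ^ (t + 1) := ⟨_, rfl⟩
    have hmm : m * m = s⁻¹ * s' := by
      rw [hm, ← pow_add]
      have h1 : t + 1 + (t + 1) = orderOf (s⁻¹ * s') + 1 := by omega
      rw [h1, pow_succ, pow_orderOf_eq_one, one_mul]
    have hmE : m ∈ MulAction.stabilizer G a ⊓ MulAction.stabilizer G b := by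
      rw [hm]; exact Subgroup.pow_mem _ hhE _
    have h2 := hinv s hsa hsb m hmE
    rw [isConj_iff]
    refine ⟨m⁻¹, ?_⟩
    have h3 : s * m⁻¹ * s⁻¹ = m := by
      have h4 : s * m⁻¹ * s⁻¹ = (s * m * s⁻¹)⁻¹ := by group
      rw [h4, h2, inv_inv]
    calc m⁻¹ * s * m⁻¹⁻¹ = s * (s⁻¹ * m⁻¹ * s) * m := by group
      _ = s * (s * m⁻¹ * s⁻¹) * m := by rw [hsinv]
      _ = s * m * m := by rw [h3]
      _ = s' := by rw [mul_assoc, hmm, mul_inv_cancel_left]
  have hred : ∀ x : G, orderOf x = 2 →
      ∃ g : G, (g⁻¹ * x * g) • a = b ∧ (g⁻¹ * x * g) • b = a := by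
    intro x hx
    have hxx : x * x = 1 := by rw [← pow_two, ← hx, pow_orderOf_eq_one]
    have hx1 : x ≠ 1 := by intro h; rw [h, orderOf_one] at hx; omega
    obtain ⟨c, hc⟩ : ∃ c : Ω, x • c ≠ c := by
      by_contra hcon
      simp only [not_exists, not_not] at hcon
      exact hx1 (Z.faithful x hcon)
    obtain ⟨g, hga, hgb⟩ := Z.two hab (Ne.symm hc)
    refine ⟨g, ?_, ?_⟩
    · rw [mul_smul, mul_smul, hga, inv_smul_eq_iff, hgb]
    · rw [mul_smul, mul_smul, hgb, ← mul_smul x x c, hxx, one_smul, inv_smul_eq_iff, hga]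
  obtain ⟨g, hg1, hg2⟩ := hred x hx
  obtain ⟨g', hg1', hg2'⟩ := hred y hy
  have h1 := hS _ _ hg1 hg2 hg1' hg2'
  have h2 : IsConj x (g⁻¹ * x * g) := isConj_iff.mpr ⟨g⁻¹, by group⟩
  have h3 : IsConj (g'⁻¹ * y * g') y := isConj_iff.mpr ⟨g', by group⟩
  exact (h2.trans h1).trans h3

theorem zass_card_invol :
    Nat.card {x : G // orderOf x = 2} * (Fintype.card Ω - Fintype.card Ω % 2)
      = Fintype.card Ω * (Fintype.card Ω - 1) *
        Nat.card ↥(MulAction.stabilizer G a ⊓ MulAction.stabilizer G b) := by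
  classical
  have Z := zdata_of hZ
  have : Fintype G := Fintype.ofFinite G
  obtain ⟨e, he⟩ : ∃ e, e = Nat.card ↥(MulAction.stabilizer G a ⊓ MulAction.stabilizer G b) :=
    ⟨_, rfl⟩
  rw [← he]
  obtain ⟨I, hI⟩ : ∃ I : Finset G, I = Finset.univ.filter (fun x : G => orderOf x = 2) :=
    ⟨_, rfl⟩
  have hIcard : Nat.card {x : G // orderOf x = 2} = I.card := by
    rw [Nat.card_eq_fintype_card, Fintype.card_subtype, hI]
  rw [hIcard]
  have hmoved : ∀ x ∈ I, (Finset.univ.filter (fun c : Ω => x • c ≠ c)).card =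
      Fintype.card Ω - Fintype.card Ω % 2 := by
    intro x hx
    rw [hI, Finset.mem_filter] at hx
    rw [← zass_invol_moved hZ hab hodd hx.2, Nat.card_eq_fintype_card, Fintype.card_subtype]
  have hfib : ∀ c : Ω, (I.filter (fun x => x • c ≠ c)).card = (Fintype.card Ω - 1) * e := by
    intro c
    rw [Finset.card_eq_sum_card_fiberwise (f := fun x : G => x • c) (t := Finset.univ.erase c)]
    · rw [Finset.sum_const_nat (m := e)]
      · rw [Finset.card_erase_of_mem (Finset.mem_univ c), Finset.card_univ]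
      · intro d hd
        have hdc : d ≠ c := Finset.ne_of_mem_erase hd
        rw [he, ← zass_card_map2 Z hab hdc.symm hdc, Nat.card_eq_fintype_card,
          Fintype.card_subtype]
        apply congrArg Finset.card
        ext x
        simp only [Finset.mem_filter, Finset.mem_univ, true_and, hI]
        constructor
        · rintro ⟨⟨hx2, hxc⟩, hxd⟩
          have hxx : x * x = 1 := by rw [← pow_two, ← hx2, pow_orderOf_eq_one]
          refine ⟨hxd, ?_⟩
          rw [← hxd, ← mul_smul, hxx, one_smul]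
        · rintro ⟨hxc, hxd⟩
          have hxx : x * x = 1 := zass_swap_sq hZ hab hodd hdc.symm hxc hxd
          have hx1 : x ≠ 1 := by
            rintro rfl
            rw [one_smul] at hxc
            exact hdc hxc.symm
          refine ⟨⟨orderOf_eq_prime (by rw [pow_two]; exact hxx) hx1, ?_⟩, hxc⟩
          rw [hxc]; exact hdc
    · intro x hx
      simp only [Finset.coe_filter, Set.mem_ofPred_eq, Finset.coe_erase, Finset.coe_univ,
        Set.mem_sdiff, Set.mem_univ, true_and, Set.mem_singleton_iff] at hx ⊢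
      exact hx.2
  have h1 : ∑ x ∈ I, (Finset.univ.filter (fun c : Ω => x • c ≠ c)).card =
      I.card * (Fintype.card Ω - Fintype.card Ω % 2) := Finset.sum_const_nat hmoved
  have h2 : ∑ c : Ω, (I.filter (fun x => x • c ≠ c)).card =
      Fintype.card Ω * ((Fintype.card Ω - 1) * e) := by
    rw [Finset.sum_const_nat (fun c _ => hfib c), Finset.card_univ]
  have h3 : ∑ x ∈ I, (Finset.univ.filter (fun c : Ω => x • c ≠ c)).card =
      ∑ c : Ω, (I.filter (fun x => x • c ≠ c)).card := by
    simp only [Finset.card_filter]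
    exact Finset.sum_comm
  rw [← h1, h3, h2, mul_assoc]

end ZO

end Cfsg.Agent.Helper18
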